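import Cfsg.Agent.SplitRankOne.Fixed
import Cfsg.Agent.BenderSuzuki.Sub
import Cfsg.Agent.BenderSuzuki.SzKern

/-!
The nilpotent normal subgroup of the point stabiliser is a 2-group.
-/

set_option autoImplicit false
set_option linter.unusedSectionVars false
set_option linter.style.haveILetI false

namespace Cfsg.Lib.SplitRankOne

open MulAction

universe u v

variable {G : Type u} {Ω : Type v} [Group G] [MulAction G Ω]

/-- Splitting an element into parts of 2-power and odd order. -/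
theorem two_part_split [Finite G] (g : G) : ∃ A B : ℤ, g ^ A * g ^ B = g ∧
    (g ^ A) ^ 2 ^ (orderOf g).factorization 2 = 1 ∧ Odd (orderOf (g ^ B)) := by
  set m := ordCompl[2] (orderOf g) with hm
  set P := 2 ^ (orderOf g).factorization 2 with hP
  have ho : P * m = orderOf g := Nat.ordProj_mul_ordCompl_eq_self _ 2
  have hc : Nat.gcd m P = 1 :=
    ((Nat.coprime_ordCompl Nat.prime_two (orderOf_pos g).ne').pow_left _).symm
  have hb := Nat.gcd_eq_gcd_ab m P
  rw [hc, Nat.cast_one] at hb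
  refine ⟨m * Nat.gcdA m P, P * Nat.gcdB m P, by rw [← zpow_add, ← hb, zpow_one], ?_, ?_⟩
  · rw [← zpow_natCast, ← zpow_mul, show ((m : ℤ) * Nat.gcdA m P) * (P : ℤ) = ((P * m : ℕ) : ℤ) * Nat.gcdA m P by
      push_cast; ring, zpow_mul, ho, zpow_natCast, pow_orderOf_eq_one, one_zpow]
  · refine (Nat.coprime_two_left.1 (Nat.coprime_ordCompl Nat.prime_two (orderOf_pos g).ne')).of_dvd_nat
      (orderOf_dvd_of_pow_eq_one ?_)
    rw [← zpow_natCast, ← zpow_mul, show ((P : ℤ) * Nat.gcdB m P) * (m : ℤ) = ((P * m : ℕ) : ℤ) * Nat.gcdB m P by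
      push_cast; ring, zpow_mul, ho, zpow_natCast, pow_orderOf_eq_one, one_zpow]

section Facts

variable [Finite G] {a b : Ω} {U : Subgroup G} (hS : Split G Ω a U)
include hS

theorem mem_biKer_of_two {g : G} (ha : g • a = a) (hb : g • b = b) {k : ℕ} (hk : g ^ 2 ^ k = 1) :
    g ∈ biKer a U a b :=
  (mem_biKer hS).2 ⟨ha, hb, fun _ hz => (cpt_comm hS hz ha hk).symm, fun _ hz => (cpt_comm hS hz hb hk).symm⟩

theorem odd_of_fix_pair (h : ¬ 2 ∣ Nat.card (biKer a U a b)) {g : G} (hg : g ∈ U) (hgb : g • b = b) :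
    Odd (orderOf g) := by
  haveI := Fact.mk Nat.prime_two
  by_contra hev
  rw [Nat.not_odd_iff_even, even_iff_two_dvd] at hev
  have ho : orderOf (g ^ (orderOf g / 2)) = 2 := orderOf_pow_orderOf_div (orderOf_pos g).ne' hev
  have hm : g ^ (orderOf g / 2) ∈ biKer a U a b :=
    mem_biKer_of_two hS (k := 1) ((stabilizer G a).pow_mem (hS.le hg) _) ((stabilizer G b).pow_mem hgb _)
      (orderOf_dvd_iff_pow_eq_one.1 (by rw [pow_one, ho]))
  exact h (ho ▸ Subgroup.orderOf_dvd_natCard _ hm)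

theorem biKer_card_eq {c : Ω} (hb : b ≠ a) (hc : c ≠ a) :
    Nat.card (biKer a U a c) = Nat.card (biKer a U a b) := by
  obtain ⟨g, g1, g2⟩ := trans₂ hS hb.symm hc.symm
  have := biKer_card hS g a b
  rwa [g1, g2] at this

theorem eq_one_of_fix_all {x : G} (h : ∀ c : Ω, x • c = c) : x = 1 :=
  hS.faithful.eq_of_smul_eq_smul fun c : Ω => by rw [h c, one_smul]

theorem isTwo_of_odd_fix (h : ∀ r ∈ U, Odd (orderOf r) → ∀ c : Ω, c ≠ a → r • c = c) : IsPGroup 2 U := by
  rintro ⟨u, hu⟩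
  obtain ⟨A, B, e, hA, hB⟩ := two_part_split u
  refine ⟨(orderOf u).factorization 2, Subtype.ext ?_⟩
  have h1 : u ^ B = 1 := eq_one_of_fix_all hS fun c => by
    rcases eq_or_ne c a with rfl | hc
    · exact hS.le (zpow_mem hu B)
    · exact h _ (zpow_mem hu B) hB c hc
  rw [h1, mul_one] at e
  rw [e] at hA
  exact hA

open Cfsg.Lib.RankOne in
/-- Regularity gives a rank one setup. -/
theorem setup_of_regular (hreg : ∀ c : Ω, c ≠ a → ∀ u ∈ U, u • c = c → u = 1) :
    ∃ t : G, Cfsg.IsRankOneSetup G Ω a t U := by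
  haveI := finite_pts hS
  obtain ⟨b, hb⟩ := hS.exists_ne
  obtain ⟨z, hz, -⟩ := exists_cpt hS a
  obtain ⟨w, hw, -⟩ := exists_cpt hS b
  obtain ⟨t, ht, -, hta, -⟩ := exists_swap hS hz hw hb.symm
  have hta' : t • a ≠ a := hta ▸ hb
  obtain ⟨c, hc⟩ := ht
  exact ⟨t,
    { two_transitive := hS.two_trans
      mul_self := cpt_sq hS hc
      ne_one := cpt_ne hS hc
      not_mem := hta'
      le := hS.le
      conj_mem := fun g hg x hx => hS.conj_mem g hg x hx
      inf_eq_bot := by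
        rw [Subgroup.eq_bot_iff_forall]
        exact fun x hx => hreg _ hta' x (Subgroup.mem_inf.1 hx).1 (Subgroup.mem_inf.1 hx).2
      sup_eq := by
        refine le_antisymm (sup_le hS.le inf_le_left) fun g hg => ?_
        obtain ⟨u, hu, e⟩ := hS.trans (t • a) (g • t • a) hta'
          (fun h => hta' (MulAction.injective g (h.trans (show g • a = a from hg).symm)))
        rw [← mul_inv_cancel_left u g]
        refine Subgroup.mul_mem_sup hu (Subgroup.mem_inf.2 ⟨?_, ?_⟩)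
        · exact mul_mem (inv_mem (hS.le hu)) hg
        · show (u⁻¹ * g) • t • a = t • a
          rw [mul_smul, inv_smul_eq_iff, e]
      even_card := by
        classical
        have e : Nat.card U = Nat.card {p : Ω // p ≠ a} := by
          refine Nat.card_eq_of_bijective (fun u : U => (⟨(u : G) • t • a, fun h => hta'
            (MulAction.injective (u : G) (h.trans (hS.le u.2).symm))⟩ : {p : Ω // p ≠ a})) ⟨fun u v h => ?_, fun p => ?_⟩
          · have h' : ((v : G)⁻¹ * u) • t • a = t • a := by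
              rw [mul_smul, show (u : G) • t • a = (v : G) • t • a from congrArg Subtype.val h, inv_smul_smul]
            exact Subtype.ext (inv_mul_eq_one.1 (hreg _ hta' _ (mul_mem (inv_mem v.2) u.2) h')).symm
          · obtain ⟨u, hu, e⟩ := hS.trans (t • a) p hta' p.2
            exact ⟨⟨u, hu⟩, Subtype.ext e⟩
        have hne : Nat.card Ω = Nat.card {p : Ω // p ≠ a} + 1 := by
          rw [← Finite.card_option]
          exact Nat.card_congr (Equiv.optionSubtypeNe a).symm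
        have hodd := hS.odd_pts
        rw [hne, ← e, Nat.odd_add_one, Nat.not_odd_iff_even] at hodd
        exact hodd
      odd_card := by
        haveI := Fact.mk Nat.prime_two
        by_contra hev
        rw [Nat.not_odd_iff_even, even_iff_two_dvd] at hev
        obtain ⟨x, hx⟩ := exists_prime_orderOf_dvd_card' 2 hev
        obtain ⟨hxa, hxt⟩ := Subgroup.mem_inf.1 x.2
        have hx2 : (x : G) ^ 2 ^ 1 = 1 := by rw [pow_one, ← hx, ← Subgroup.orderOf_coe, pow_orderOf_eq_one]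
        have h1 := hreg _ hta' _ (hS.two_mem _ hxa 1 hx2) hxt
        rw [← Subgroup.orderOf_coe, h1, orderOf_one] at hx
        exact absurd hx (by decide) }⟩

open Cfsg.Lib.RankOne in
/-- The regular case. -/
theorem isTwo_of_regular (hI : ∀ N, BenderSuzuki.IH.{u, v} N)
    (hreg : ∀ c : Ω, c ≠ a → ∀ u ∈ U, u • c = c → u = 1) : IsPGroup 2 U := by
  haveI := finite_pts hS
  haveI := hS.faithful
  obtain ⟨t, hset⟩ := setup_of_regular hS hreg
  obtain ⟨z', hz', w', hw', hne⟩ := hS.four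
  obtain ⟨L, hL1, -, -, hUL, hL⟩ := BenderSuzuki.reduceStep hset
    ⟨z', w', hz'.2.1, hw'.2.1, hne, hz'.2.2.1, hw'.2.2.1, (hw'.2.2.2 z' hz'.1).eq⟩
  have hgood := hI (Nat.card L + 1) L Ω a ⟨t, hL1⟩ _ (Nat.lt_succ_self _) hL
  obtain ⟨m, hm⟩ := BenderSuzuki.qNum_two_pow hL
  have hcard := Nat.card_congr (Subgroup.subgroupOfEquivOfLe hUL).toEquiv
  rcases hgood.dich with ⟨-, h⟩ | ⟨-, h, -⟩ | ⟨-, h, -, -⟩ <;> rw [hcard, hm] at h
  · exact IsPGroup.of_card h
  · exact IsPGroup.of_card (n := m * 2) (by rw [h, pow_mul])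
  · exact IsPGroup.of_card (n := m * 3) (by rw [h, pow_mul])

/-- No nontrivial element of `U` of odd order fixes two points, unless some pair kernel has even order. -/
theorem no_fix (hIH : TwoIH.{u, v} (Nat.card G)) (h2 : ∀ c : Ω, c ≠ a → ¬ 2 ∣ Nat.card (biKer a U a c))
    (hb : b ≠ a) {v₀ : G} (hv₀ : v₀ ∈ U) (hv₀b : v₀ • b = b) (hv₀1 : v₀ ≠ 1) : False := by
  -- the kernel at `a`, `b` is nontrivial
  have hK : biKer a U a b ≠ ⊥ := by
    intro hbot
    have h0 : ∀ p r : Ω, p ≠ r → biKer a U p r = ⊥ := fun p r hne => by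
      obtain ⟨g, g1, g2⟩ := trans₂ hS hb.symm hne
      rw [← Subgroup.card_eq_one, ← g1, ← g2, biKer_card hS g a b, hbot, Subgroup.card_bot]
    have h1 : v₀ ∈ oneKer a U a b :=
      (mem_oneKer hS).2 ⟨hS.le hv₀, hv₀b, fun z hz => cpt_U hS hz hv₀⟩
    rw [oneKer_trivial hS h0 hb, Subgroup.mem_bot] at h1
    exact hv₀1 h1
  -- it contains the stabiliser of `b` in `U`
  have hV : ∀ v ∈ U, v • b = b → v ∈ biKer a U a b := by
    intro v hv hvb
    obtain ⟨p, hp, hpd⟩ := Nat.exists_prime_and_dvd (n := Nat.card (biKer a U a b))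
      (fun h => hK (Subgroup.card_eq_one.1 h))
    haveI := Fact.mk hp
    obtain ⟨Y, hY, hY1⟩ := exists_maxP hS b hpd
    obtain ⟨w, hw, hw', hn⟩ := adjust hS hY hv fun y hy => by
      have := biKer_conj hS (g := v⁻¹) (hY.1 hy)
      rwa [inv_smul_eq_iff.2 (show v • a = a from hS.le hv).symm, inv_smul_eq_iff.2 hvb.symm, inv_inv] at this
    have hk : v * w ∈ biKer a U a b := by
      have hvwb : (v * w) • b = b := by rw [mul_smul, ((mem_biKer hS).1 hw').2.1, hvb]
      have hvwa : (v * w) • a = a := hS.le (mul_mem hv hw)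
      refine (mem_biKer hS).2 ⟨hvwa, hvwb, fun z hz => cpt_U hS hz (mul_mem hv hw), fun z hz => ?_⟩
      have hfix := odd_fix hS hIH hb hY hY1 (mul_mem hv hw) hn (odd_of_fix_pair hS (h2 b hb) (mul_mem hv hw) hvwb)
      have hz' : (v * w) * z * (v * w)⁻¹ ∈ cpt a U b := by
        have := cpt_conj hS hz (v * w)
        rwa [hvwb] at this
      refine mul_inv_eq_iff_eq_mul.1 ?_
      by_contra hne
      have hzn : z ∈ Subgroup.normalizer (Y : Set G) :=
        centralizing_mem_normalizer hS fun y hy => (fix_b_mem hS hY y hy).2 z hz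
      have e1 : (((v * w) * z * (v * w)⁻¹) * z) • a = a := by
        have h3 := hfix ((⟨z, hzn⟩ : Subgroup.normalizer (Y : Set G)) • (⟨a, fix_a_mem hS hY⟩ : FixY a U Y))
        have h4 : (v * w) • z • a = z • a := h3
        rw [mul_smul, mul_smul, mul_smul, inv_smul_eq_iff.2 h4.symm, ← mul_smul z z, cpt_sq hS hz, one_smul, hvwa]
      exact hb (cpt_only hS (cpt_mul hS hz' hz hne) e1).symm
    simpa using mul_mem hk (inv_mem hw')
  -- an element of prime order fixing `b`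
  obtain ⟨p, hp, hpd⟩ := Nat.exists_prime_and_dvd (n := orderOf v₀) (fun h => hv₀1 (orderOf_eq_one_iff.1 h))
  haveI := Fact.mk hp
  have hp2 : p ≠ 2 := fun h => by
    have := odd_of_fix_pair hS (h2 b hb) hv₀ hv₀b
    exact Nat.not_even_iff_odd.2 this (even_iff_two_dvd.2 (h ▸ hpd))
  obtain ⟨Y, hY, hY1⟩ := exists_maxP hS b (hpd.trans (Subgroup.orderOf_dvd_natCard _ (hV v₀ hv₀ hv₀b)))
  haveI := hS.nilpotent
  obtain ⟨R⟩ : Nonempty (Sylow p U) := inferInstance
  have h03 := (Group.isNilpotent_of_finite_tfae (G := U)).out 0 3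
  haveI hRn : (R : Subgroup U).Normal := h03.1 hS.nilpotent p ‹_› R
  set Rg := (R : Subgroup U).map U.subtype with hRg
  have hRp : IsPGroup p Rg := R.isPGroup'.map _
  have hRU : Rg ≤ U := Subgroup.map_subtype_le _
  have hRmem : ∀ x ∈ U, (∃ i, x ^ p ^ i = 1) → x ∈ Rg := by
    rintro x hx ⟨i, hi⟩
    have hz : IsPGroup p (Subgroup.zpowers (⟨x, hx⟩ : U)) := by
      obtain ⟨j, -, hj⟩ := (Nat.dvd_prime_pow hp).1 (orderOf_dvd_of_pow_eq_one hi)
      exact IsPGroup.of_card (n := j) (by rw [Nat.card_zpowers, Subgroup.orderOf_mk, hj])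
    exact ⟨⟨x, hx⟩, R.is_maximal' (hz.to_sup_of_normal_right R.isPGroup') le_sup_right
      ▸ (le_sup_left : Subgroup.zpowers (⟨x, hx⟩ : U) ≤ _) (Subgroup.mem_zpowers _), rfl⟩
  have hRconj : ∀ g : G, g • a = a → ∀ x ∈ Rg, g * x * g⁻¹ ∈ Rg := by
    intro g hg x hx
    obtain ⟨i, hi⟩ := hRp ⟨x, hx⟩
    exact hRmem _ (hS.conj_mem g hg x (hRU hx)) ⟨i, by
      rw [conj_pow, show x ^ p ^ i = 1 from congrArg Subtype.val hi, mul_one, mul_inv_cancel]⟩
  haveI := finite_pts hS
  let : MulAction Y (MulAction.orbit Rg b) :=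
    { smul := fun y c => ⟨(y : G) • (c : Ω), by
        obtain ⟨r, hr⟩ := c.2
        refine ⟨⟨(y : G) * r * (y : G)⁻¹, hRconj _ (fix_a_mem hS hY y y.2).1 r r.2⟩, ?_⟩
        show ((y : G) * r * (y : G)⁻¹) • b = (y : G) • (c : Ω)
        rw [← hr, mul_smul, mul_smul, inv_smul_eq_iff.2 (fix_b_mem hS hY y y.2).1.symm]
        rfl⟩
      one_smul := fun c => Subtype.ext (one_smul G (c : Ω))
      mul_smul := fun x y c => Subtype.ext (mul_smul (x : G) (y : G) (c : Ω)) }
  have hdvd : p ∣ Nat.card (MulAction.orbit Rg b) := by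
    obtain ⟨i, hi⟩ := hRp.card_orbit b
    rw [hi]
    refine dvd_pow_self p fun h0 => ?_
    rw [h0, pow_zero, Nat.card_eq_one_iff_unique] at hi
    obtain ⟨hsub, -⟩ := hi
    have hRb : ∀ r ∈ Rg, r • b = b := fun r hr =>
      congrArg Subtype.val (hsub.elim (⟨r • b, ⟨⟨r, hr⟩, rfl⟩⟩ : MulAction.orbit Rg b)
        ⟨b, MulAction.mem_orbit_self b⟩)
    have ho : orderOf (v₀ ^ (orderOf v₀ / p)) = p := orderOf_pow_orderOf_div (orderOf_pos _).ne' hpd
    have hm : v₀ ^ (orderOf v₀ / p) ∈ Rg :=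
      hRmem _ (pow_mem hv₀ _) ⟨1, orderOf_dvd_iff_pow_eq_one.1 (by rw [pow_one, ho])⟩
    have h1 : v₀ ^ (orderOf v₀ / p) = 1 := eq_one_of_fix_all hS fun c => by
      rcases eq_or_ne c a with rfl | hc
      · exact hS.le (hRU hm)
      obtain ⟨u, hu, rfl⟩ := hS.trans b c hb hc
      have hm' := hRconj u⁻¹ (inv_smul_eq_iff.2 (show u • a = a from hS.le hu).symm) _ hm
      rw [inv_inv] at hm'
      have := hRb _ hm'
      rwa [mul_smul, mul_smul, inv_smul_eq_iff] at this
    rw [h1, orderOf_one] at ho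
    exact hp.one_lt.ne ho
  obtain ⟨⟨c, hcO⟩, hcfix, hcb⟩ := hY.2.1.exists_fixed_point_of_prime_dvd_card_of_fixed_point
    (MulAction.orbit Rg b) hdvd (a := ⟨b, MulAction.mem_orbit_self b⟩)
    (fun y => Subtype.ext (fix_b_mem hS hY y y.2).1)
  obtain ⟨⟨u, huR⟩, hub⟩ := hcO
  have hub' : u • b = c := hub
  have hcb' : c ≠ b := fun h => hcb (Subtype.ext h.symm)
  have hua : u • a = a := hS.le (hRU huR)
  have hca : c ≠ a := fun h => hb (MulAction.injective u (hub'.trans (h.trans hua.symm)))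
  have hyc : ∀ y ∈ Y, y • c = c := fun y hy => congrArg Subtype.val (hcfix ⟨y, hy⟩)
  have hmem : ∀ y ∈ Y, y • c = c ∧ ∀ z ∈ cpt a U c, Commute y z := by
    intro y hy
    have h1 : u⁻¹ * y * u ∈ biKer a U a b := by
      rw [show u⁻¹ * y * u = (u⁻¹ * (y * u * y⁻¹)) * y by group]
      refine mul_mem (hV _ (mul_mem (inv_mem (hRU huR))
        (hS.conj_mem y (fix_a_mem hS hY y hy).1 u (hRU huR))) ?_) (hY.1 hy)
      rw [mul_smul, mul_smul, mul_smul, inv_smul_eq_iff.2 (fix_b_mem hS hY y hy).1.symm, hub', hyc y hy,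
        inv_smul_eq_iff, hub']
    have h2' := biKer_conj hS (g := u) h1
    rw [hua, hub', show u * (u⁻¹ * y * u) * u⁻¹ = y by group] at h2'
    exact ⟨hyc y hy, ((mem_biKer hS).1 h2').2.2.2⟩
  obtain ⟨u', hu', hun', hub''⟩ := fix_trans hS hb hY (c := ⟨c, hmem⟩) hca
  obtain ⟨A, B, e, hA, hB⟩ := two_part_split u'
  have hrb : u' ^ B • b = b := odd_fix hS hIH hb hY hY1 (zpow_mem hu' B) (zpow_mem hun' B) hB ⟨b, fix_b_mem hS hY⟩
  have hsb : u' ^ A • b = c := by
    have h := hub''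
    rw [← e, mul_smul, hrb] at h
    exact h
  obtain ⟨i, hi⟩ := hRp ⟨u, huR⟩
  have hcop : (orderOf u).Coprime 2 :=
    (((Nat.coprime_primes hp Nat.prime_two).2 hp2).pow_left i).coprime_dvd_left
      (orderOf_dvd_of_pow_eq_one (congrArg Subtype.val hi))
  have hcm : Commute (u' ^ A) u⁻¹ :=
    Commute.inv_right (Cfsg.Lib.NilMax.commute_of_nilpotent hS.nilpotent (p := 2) (zpow_mem hu' A)
      (hRU huR) ⟨_, hA⟩ hcop)
  have hw : (u' ^ A * u⁻¹) • b = b := by rw [hcm.eq, mul_smul, hsb, ← hub', inv_smul_smul]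
  have hw2 : (u' ^ A * u⁻¹) ^ 2 ^ (orderOf u').factorization 2 • b = b := (stabilizer G b).pow_mem hw _
  rw [hcm.mul_pow, hA, one_mul, inv_pow, inv_smul_eq_iff] at hw2
  obtain ⟨j, hj⟩ := exists_pow_eq_self_of_coprime (x := u) (n := 2 ^ (orderOf u').factorization 2)
    (hcop.symm.pow_left _)
  exact hcb' (by
    rw [← hub', ← hj]
    exact (stabilizer G b).pow_mem hw2.symm j)

/-- The inductive step. -/
theorem isTwo_step (hI : ∀ N, BenderSuzuki.IH.{u, v} N) (hIH : TwoIH.{u, v} (Nat.card G)) : IsPGroup 2 U := by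
  haveI := Fact.mk Nat.prime_two
  obtain ⟨b₀, hb₀⟩ := hS.exists_ne
  by_cases h2 : 2 ∣ Nat.card (biKer a U a b₀)
  · refine isTwo_of_odd_fix hS fun r hr hodd c hc => ?_
    obtain ⟨Y, hY, hY1⟩ := exists_maxP hS c (biKer_card_eq hS hb₀ hc ▸ h2)
    have hn : r ∈ Subgroup.normalizer (Y : Set G) := centralizing_mem_normalizer hS fun y hy => by
      obtain ⟨k, hk⟩ := hY.2.1 ⟨y, hy⟩
      have hk' : y ^ 2 ^ k = 1 := congrArg Subtype.val hk
      exact Cfsg.Lib.NilMax.commute_of_nilpotent hS.nilpotent (p := 2)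
        (hS.two_mem y (fix_a_mem hS hY y hy).1 k hk') hr ⟨k, hk'⟩ (Nat.coprime_two_right.2 hodd)
    exact odd_fix hS hIH hc hY hY1 hr hn hodd ⟨c, fix_b_mem hS hY⟩
  · refine isTwo_of_regular hS hI fun c hc u hu huc => ?_
    by_contra hu1
    exact no_fix hS hIH (fun d hd => biKer_card_eq hS hb₀ hd ▸ h2) hc hu huc hu1

end Facts

/-- The nilpotent normal subgroup is a 2-group. -/
theorem twoIH_all (hI : ∀ N, BenderSuzuki.IH.{u, v} N) (N : ℕ) : TwoIH.{u, v} N := by
  induction N with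
  | zero => intro H _ _ Λ _ c R hlt; exact absurd hlt (Nat.not_lt_zero _)
  | succ N ih =>
    intro H _ _ Λ _ c R hlt hs
    rcases (Nat.lt_succ_iff.1 hlt).lt_or_eq with h | h
    · exact ih H Λ c R h hs
    · exact isTwo_step hs hI (h ▸ ih)

theorem isTwo (hI : ∀ N, BenderSuzuki.IH.{u, v} N) [Finite G] {a : Ω} {U : Subgroup G} (hS : Split G Ω a U) :
    IsPGroup 2 U :=
  twoIH_all hI (Nat.card G + 1) G Ω a U (Nat.lt_succ_self _) hS

end Cfsg.Lib.SplitRankOne
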