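import Cfsg.Agent.SplitRankOne.Transfer
import Cfsg.Agent.SplitRankOne.TwoGroup
import Cfsg.Agent.BenderSuzuki.Induction
import Cfsg.Agent.BN.Extra
import Cfsg.Agent.Coprime.SolvableBasics
import Cfsg.Agent.InvolCalc.ZStarApps
import Cfsg.Agent.Suz.Group
import Cfsg.Agent.Suz.SylowAut
import Cfsg.Prelude.Def_Exceptional
import Cfsg.Prelude.Def_Involutions
import Cfsg.Prelude.Def_LieExceptional

/-!
Simple groups with a strongly split rank one `(B, N)`-pair in odd degree.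
-/

set_option autoImplicit false
set_option linter.unusedSectionVars false
set_option linter.style.haveILetI false

namespace Cfsg.Lib.SplitRankOne

open MulAction

universe u

variable {G : Type u} [Group G] [Finite G] [IsSimpleGroup G]

theorem not_comm_of_pair (P : Cfsg.BNPair G) {s : G} (hs : s ∈ P.S) : ¬ IsMulCommutative G := by
  intro hc
  have hn : P.B.Normal := ⟨fun n hn g => by rw [mul_comm' g n, mul_inv_cancel_right]; exact hn⟩
  refine P.conj_ne s hs ?_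
  have hss : s * s ∈ P.B := P.sq_mem s hs
  ext x
  refine ⟨?_, fun hx => ⟨x * (s * s)⁻¹, mul_mem hx (inv_mem hss), ?_⟩⟩
  · rintro ⟨b, hb, rfl⟩
    show s * b * s ∈ P.B
    rw [mul_comm' s b, mul_assoc]
    exact mul_mem hb hss
  · show s * (x * (s * s)⁻¹) * s = x
    rw [mul_comm' s (x * (s * s)⁻¹), mul_assoc, inv_mul_cancel_right]

theorem base_smul (H : Subgroup G) (g : G) : g • ((1 : G) : G ⧸ H) = (g : G ⧸ H) := by
  rw [MulAction.Quotient.smul_coe, smul_eq_mul, mul_one]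

/-- A nilpotent group of even order has a central involution. -/
theorem exists_central (U : Subgroup G) (hnil : Group.IsNilpotent U) (h2 : 2 ∣ Nat.card U) :
    ∃ z : G, z ∈ cinv U := by
  haveI := Fact.mk Nat.prime_two
  obtain ⟨S⟩ : Nonempty (Sylow 2 U) := inferInstance
  have h03 := (Group.isNilpotent_of_finite_tfae (G := U)).out 0 3
  haveI : (S : Subgroup U).Normal := h03.1 hnil 2 ‹_› S
  have hne := Cfsg.Lib.Coprime.inf_center_ne_bot (S : Subgroup U) (S.ne_bot_of_dvd_card h2)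
  obtain ⟨n, hn⟩ := S.isPGroup'.to_le (inf_le_left (b := Subgroup.center U)) |>.exists_card_eq
  have hd : 2 ∣ Nat.card ((S : Subgroup U) ⊓ Subgroup.center U : Subgroup U) := by
    rw [hn]
    refine dvd_pow_self 2 fun h0 => hne (Subgroup.card_eq_one.1 ?_)
    rw [hn, h0, pow_zero]
  obtain ⟨z, hz⟩ := exists_prime_orderOf_dvd_card' 2 hd
  have ho : orderOf ((z : U) : G) = 2 := by rw [Subgroup.orderOf_coe, Subgroup.orderOf_coe, hz]
  refine ⟨((z : U) : G), (z : U).2, fun h => ?_, ?_, fun u hu => ?_⟩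
  · rw [h, orderOf_one] at ho; omega
  · rw [← pow_two]; exact orderOf_dvd_iff_pow_eq_one.1 ho.dvd
  · exact congrArg Subtype.val (Subgroup.mem_center_iff.1 (Subgroup.mem_inf.1 z.2).2 ⟨u, hu⟩)

/-- The rank one pair gives the standing hypotheses. -/
theorem split_of_pair (P : Cfsg.BNPair G) (hrank : P.rank = 1) (U : Subgroup G) (hUB : U ≤ P.B)
    (hUn : (U.subgroupOf P.B).Normal) (hUnil : Group.IsNilpotent U) (hsplit : U ⊔ (P.B ⊓ P.N) = P.B)
    (hdisj : U ⊓ P.N = ⊥) (hind : Odd P.B.index) (hH : Odd (Nat.card ↥(P.B ⊓ P.N))) :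
    Split G (G ⧸ P.B) ((1 : G) : G ⧸ P.B) U := by
  haveI h2t := Cfsg.Lib.BN.twoTransitive_of_rank_one P hrank
  obtain ⟨-, ⟨⟨s, hs⟩⟩⟩ := Nat.card_eq_one_iff_unique.1 hrank
  have hsB : s ∉ P.B := Cfsg.Lib.BN.not_mem_B hs
  have hna := not_comm_of_pair P hs
  set a : G ⧸ P.B := ((1 : G) : G ⧸ P.B) with ha
  have hfix : ∀ {g : G}, g • a = a ↔ g ∈ P.B := fun {g} => by
    rw [ha, base_smul, QuotientGroup.eq, mul_one, inv_mem_iff]
  have hsa : s • a ≠ a := fun h => hsB (hfix.1 h)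
  have hUnorm : ∀ g ∈ P.B, ∀ x ∈ U, g * x * g⁻¹ ∈ U := fun g hg x hx =>
    hUn.conj_mem ⟨x, hUB hx⟩ hx ⟨g, hg⟩
  have hle : P.B ⊓ P.N ≤ Subgroup.normalizer (U : Set G) := by
    intro d hd
    rw [Subgroup.mem_normalizer_iff]
    refine fun x => ⟨fun hx => hUnorm d hd.1 x hx, fun hx => ?_⟩
    have := hUnorm d⁻¹ (inv_mem hd.1) _ hx
    rwa [show d⁻¹ * (d * x * d⁻¹) * d⁻¹⁻¹ = x by group] at this
  have hdec : ∀ g ∈ P.B, ∃ u ∈ U, ∃ h ∈ P.B ⊓ P.N, g = u * h := by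
    intro g hg
    rw [← hsplit, ← SetLike.mem_coe, Subgroup.coe_mul_of_right_le_normalizer_left U _ hle] at hg
    obtain ⟨u, hu, h, hh, e⟩ := Set.mem_mul.1 hg
    exact ⟨u, hu, h, hh, e.symm⟩
  have hHs : ∀ h ∈ P.B ⊓ P.N, h • s • a = s • a := by
    intro h hh
    have h1 := P.conj_mem s⁻¹ (inv_mem (P.subset hs)) h hh
    have h2 : (s⁻¹ * h * s) • a = a := hfix.2 (by rwa [inv_inv] at h1)
    rwa [mul_smul, mul_smul, inv_smul_eq_iff] at h2
  have hreach : ∀ c : G ⧸ P.B, c ≠ a → ∃ u ∈ U, u • s • a = c := by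
    intro c hc
    obtain ⟨g, g1, g2⟩ := is_two_pretransitive_iff.1 h2t hsa.symm hc.symm
    obtain ⟨u, hu, h, hh, rfl⟩ := hdec g (hfix.1 g1)
    exact ⟨u, hu, by rw [← g2, mul_smul, hHs h hh]⟩
  have htrans : ∀ b c : G ⧸ P.B, b ≠ a → c ≠ a → ∃ u ∈ U, u • b = c := by
    intro b c hb hc
    obtain ⟨u, hu, rfl⟩ := hreach b hb
    obtain ⟨v, hv, rfl⟩ := hreach c hc
    exact ⟨v * u⁻¹, mul_mem hv (inv_mem hu), by rw [mul_smul, inv_smul_smul]⟩
  have hfaith : FaithfulSMul G (G ⧸ P.B) := by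
    constructor
    intro x y h
    have hk : y⁻¹ * x ∈ P.B.normalCore := by
      rw [Subgroup.normalCore_eq_ker, MonoidHom.mem_ker]
      refine Equiv.ext fun p => ?_
      show (y⁻¹ * x) • p = p
      rw [mul_smul, h p, inv_smul_smul]
    rcases IsSimpleGroup.eq_bot_or_eq_top_of_normal P.B.normalCore (Subgroup.normalCore_normal P.B) with e | e
    · rw [e, Subgroup.mem_bot, inv_mul_eq_one] at hk
      exact hk.symm
    · exact absurd (Subgroup.normalCore_le P.B (e ▸ Subgroup.mem_top s : s ∈ P.B.normalCore)) hsB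
  have htwo : ∀ g : G, g • a = a → ∀ k : ℕ, g ^ 2 ^ k = 1 → g ∈ U := by
    intro g hg k hk
    obtain ⟨u, hu, h, hh, rfl⟩ := hdec g (hfix.1 hg)
    have key : ∀ n : ℕ, (u * h) ^ n * (h ^ n)⁻¹ ∈ U := by
      intro n
      induction n with
      | zero => simp [one_mem]
      | succ n ih =>
        rw [show (u * h) ^ (n + 1) * (h ^ (n + 1))⁻¹ =
          (u * h) ^ n * (h ^ n)⁻¹ * (h ^ n * u * (h ^ n)⁻¹) by rw [pow_succ, pow_succ]; group]
        exact mul_mem ih (hUnorm _ (pow_mem hh.1 _) u hu)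
    have h1 := key (2 ^ k)
    rw [hk, one_mul] at h1
    have h2 : h ^ 2 ^ k = 1 := by
      rw [← Subgroup.mem_bot, ← hdisj]
      exact Subgroup.mem_inf.2 ⟨inv_mem_iff.1 h1, pow_mem hh.2 _⟩
    have hodd : Odd (orderOf h) := hH.of_dvd_nat (Subgroup.orderOf_dvd_natCard _ hh)
    obtain ⟨i, hi, e⟩ := (Nat.dvd_prime_pow Nat.prime_two).1 (orderOf_dvd_of_pow_eq_one h2)
    have : i = 0 := by
      by_contra h0
      exact Nat.not_even_iff_odd.2 hodd (e ▸ Nat.even_pow.2 ⟨even_two, h0⟩)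
    rw [this, pow_zero, orderOf_eq_one_iff] at e
    rw [e, mul_one]
    exact hu
  have hodd : Odd (Nat.card (G ⧸ P.B)) := hind
  have hev : 2 ∣ Nat.card U := by
    classical
    haveI := Fintype.ofFinite G
    have hne : Nat.card (G ⧸ P.B) = Nat.card {p : G ⧸ P.B // p ≠ a} + 1 := by
      rw [← Finite.card_option]
      exact Nat.card_congr (Equiv.optionSubtypeNe a).symm
    rw [hne, Nat.odd_add_one, Nat.not_odd_iff_even, even_iff_two_dvd] at hodd
    have horb : orbit U (s • a) = {p | p ≠ a} := by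
      refine Set.ext fun p => ⟨?_, fun hp => ?_⟩
      · rintro ⟨u, rfl⟩ h
        exact hsa (MulAction.injective (u : G) (h.trans (hfix.2 (hUB u.2)).symm))
      · obtain ⟨u, hu, e⟩ := hreach p hp
        exact ⟨⟨u, hu⟩, e⟩
    have h3 := Nat.card_congr (MulAction.orbitProdStabilizerEquivGroup U (s • a))
    rw [Nat.card_prod, horb] at h3
    exact h3 ▸ hodd.mul_right _
  obtain ⟨z, hz⟩ := exists_central U hUnil hev
  refine
    { faithful := hfaith
      two_trans := h2t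
      odd_pts := hind
      exists_ne := ⟨s • a, hsa⟩
      le := fun u hu => hfix.2 (hUB hu)
      conj_mem := fun g hg x hx => hUnorm g (hfix.1 hg) x hx
      nilpotent := hUnil
      trans := htrans
      two_mem := htwo
      four := ?_ }
  refine ⟨z, hz, ?_⟩
  by_contra hno
  push Not at hno
  have honly : ∀ c : G ⧸ P.B, z • c = c → c = a := by
    intro c hc
    by_contra hca
    refine hz.2.1 (hfaith.eq_of_smul_eq_smul (α := G ⧸ P.B) fun d => ?_)
    rw [one_smul]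
    rcases eq_or_ne d a with rfl | hd
    · exact hfix.2 (hUB hz.1)
    · obtain ⟨u, hu, rfl⟩ := htrans c d hca hd
      rw [← mul_smul, ← (hz.2.2.2 u hu).eq, mul_smul, hc]
  have hiso : ∀ g : G, Commute z (g * z * g⁻¹) → g * z * g⁻¹ = z := by
    intro g hc
    have hza : z • a = a := hfix.2 (hUB hz.1)
    have h1 : z • g • a = g • a := by
      have hya : (g * z * g⁻¹) • a = a := honly _ (fix_comm hc hza)
      have h2 : z • g⁻¹ • a = g⁻¹ • a := by
        rw [mul_smul, mul_smul] at hya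
        exact eq_inv_smul_iff.2 hya
      rw [inv_smul_eq_iff.1 (honly _ h2) |>.symm, hza]
    have hga : g • a = a := honly _ h1
    have hgB := hfix.1 hga
    refine (hno _ ⟨hUnorm g hgB z hz.1, conj_ne_one hz.2.1, conj_sq hz.2.2.1, fun u hu => ?_⟩).symm
    have hu' : g⁻¹ * u * g ∈ U := by
      have := hUnorm g⁻¹ (inv_mem hgB) u hu
      rwa [inv_inv] at this
    have := (Commute.conj_iff g).2 (hz.2.2.2 _ hu')
    rwa [show g * (g⁻¹ * u * g) * g⁻¹ = u by group] at this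
  have ho : orderOf z = 2 := Cfsg.Lib.InvolCalc.order_two_of_mul_self hz.2.2.1 hz.2.1
  have hzs := Cfsg.Lib.ZStarApps.zstarProp (z := z) ⟨ho, hiso⟩
  have hcore : Cfsg.pPrimeCore 2 G = ⊥ := by
    refine (IsSimpleGroup.eq_bot_or_eq_top_of_normal _ inferInstance).resolve_right fun h => ?_
    have h' : Odd (Nat.card (Cfsg.pPrimeCore 2 G)) := Cfsg.Lib.ZStarApps.odd_card_pPrimeCore
    rw [h, Subgroup.card_top] at h'
    exact Nat.not_even_iff_odd.2 h' (even_iff_two_dvd.2 (ho ▸ orderOf_dvd_natCard z))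
  have hcen : z ∈ Subgroup.center G := Subgroup.mem_center_iff.2 fun g => by
    have h1 := hzs g
    rw [hcore, Subgroup.mem_bot, mul_inv_eq_one] at h1
    exact (mul_inv_eq_iff_eq_mul.1 h1).symm
  rcases IsSimpleGroup.eq_bot_or_eq_top_of_normal (Subgroup.center G) inferInstance with h | h
  · rw [h, Subgroup.mem_bot] at hcen
    exact hz.2.1 hcen
  · exact hna ⟨⟨fun x y => Subgroup.mem_center_iff.1 (h ▸ Subgroup.mem_top y : y ∈ Subgroup.center G) x⟩⟩

open Cfsg.Lib.RankOne in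
/-- The classification in odd degree, given the classification of rank one groups. -/
theorem simple_split (hI : ∀ N, BenderSuzuki.IH.{u, u} N) (P : Cfsg.BNPair G) (hrank : P.rank = 1)
    (U : Subgroup G) (hUB : U ≤ P.B) (hUn : (U.subgroupOf P.B).Normal) (hUnil : Group.IsNilpotent U)
    (hsplit : U ⊔ (P.B ⊓ P.N) = P.B) (hdisj : U ⊓ P.N = ⊥) (hind : Odd P.B.index)
    (hH : Odd (Nat.card ↥(P.B ⊓ P.N))) :
    (∃ (F : Type) (_ : Field F) (_ : Fintype F), (∃ n : ℕ, Fintype.card F = 2 ^ n) ∧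
      Nonempty (G ≃* Matrix.ProjectiveSpecialLinearGroup (Fin 2) F)) ∨
    Cfsg.IsSuzuki G ∨
    (∃ (F : Type) (_ : Field F) (_ : Fintype F) (n : ℕ), 2 ≤ n ∧ Fintype.card F = (2 ^ n) ^ 2 ∧
      Nonempty (G ≃* Cfsg.PSU 3 F (2 ^ n))) := by
  obtain ⟨-, ⟨⟨s, hs⟩⟩⟩ := Nat.card_eq_one_iff_unique.1 hrank
  have hna := not_comm_of_pair P hs
  have hS := split_of_pair P hrank U hUB hUn hUnil hsplit hdisj hind hH
  have hU := isTwo hI hS
  have hreg : ∀ c : G ⧸ P.B, c ≠ ((1 : G) : G ⧸ P.B) → ∀ u ∈ U, u • c = c → u = 1 := by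
    intro c hc u hu huc
    have h : u ∈ U ⊓ stabilizer G c := Subgroup.mem_inf.2 ⟨hu, huc⟩
    rwa [show U ⊓ stabilizer G c = ⊥ from ptGroup_eq_bot hS hU inferInstance hna hc, Subgroup.mem_bot] at h
  haveI := hS.faithful
  obtain ⟨t, hset⟩ := setup_of_regular hS hreg
  obtain ⟨z, hz, w, hw, hne⟩ := hS.four
  obtain ⟨L, hLn, hLodd, hL⟩ := BenderSuzuki.classification_of_steps BenderSuzuki.reduceStep hI hset
    ⟨z, w, hz.2.1, hw.2.1, hne, hz.2.2.1, hw.2.2.1, (hw.2.2.2 z hz.1).eq⟩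
  have ht2 : orderOf t = 2 := Cfsg.Lib.InvolCalc.order_two_of_mul_self hset.mul_self hset.ne_one
  have hLt : L = ⊤ := by
    refine (IsSimpleGroup.eq_bot_or_eq_top_of_normal L hLn).resolve_left fun h => ?_
    rw [h, Subgroup.index_bot] at hLodd
    exact Nat.not_even_iff_odd.2 hLodd (even_iff_two_dvd.2 (ht2 ▸ orderOf_dvd_natCard t))
  subst hLt
  let e := (Subgroup.topEquiv (G := G)).symm
  rcases hL with ⟨F, iF, iF', ⟨n, -, hF⟩, ⟨f⟩⟩ | ⟨F, iF, iF', m, hm, hF, ⟨f⟩⟩ | ⟨F, iF, iF', n, hn, hF, ⟨f⟩⟩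
  · exact Or.inl ⟨F, iF, iF', ⟨n, hF⟩, ⟨e.trans f⟩⟩
  · refine Or.inr (Or.inl ⟨inferInstance, m, hm, ?_⟩)
    rw [Nat.card_congr ((e.trans f).trans (Cfsg.Lib.Suz.lieEquiv (⟨hm, hF⟩ : Cfsg.Lib.Suz.Par F m)).symm).toEquiv]
    exact Cfsg.Lib.Suz.card_Sz ⟨hm, hF⟩
  · exact Or.inr (Or.inr ⟨F, iF, iF', n, hn, hF, ⟨e.trans f⟩⟩)

end Cfsg.Lib.SplitRankOne
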