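import Mathlib

/-!
Averaging over an odd number of cosets: a projection onto the elements fixed modulo a normal subgroup.
-/

set_option autoImplicit false
set_option linter.unusedSectionVars false
set_option linter.style.haveILetI false

namespace Cfsg.Lib.SplitRankOne

variable {G : Type*} [Group G] [Finite G]

/-- If `D` acts on `Y / N` (commutative, of exponent two) through a quotient `D / K` of odd order, some map picks
a fixed class multiplicatively, invariantly, and as the identity on fixed classes. -/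
theorem exists_average (Y N D K : Subgroup G)
    (hKn : ∀ d ∈ D, ∀ k ∈ K, d * k * d⁻¹ ∈ K)
    (hNn : ∀ y ∈ Y, ∀ n ∈ N, y * n * y⁻¹ ∈ N) (hsq : ∀ y ∈ Y, y * y ∈ N)
    (hDY : ∀ d ∈ D, ∀ y ∈ Y, d * y * d⁻¹ ∈ Y) (hDN : ∀ d ∈ D, ∀ n ∈ N, d * n * d⁻¹ ∈ N)
    (hK : ∀ k ∈ K, ∀ y ∈ Y, y⁻¹ * (k * y * k⁻¹) ∈ N) (hodd : Odd (K.subgroupOf D).index) :
    ∃ F : G → G, (∀ y ∈ Y, F y ∈ Y) ∧
      (∀ y ∈ Y, ∀ y' ∈ Y, (F (y * y'))⁻¹ * (F y * F y') ∈ N) ∧
      (∀ d ∈ D, ∀ y ∈ Y, (F (d * y * d⁻¹))⁻¹ * F y ∈ N) ∧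
      (∀ d ∈ D, ∀ y ∈ Y, (F y)⁻¹ * (d * F y * d⁻¹) ∈ N) ∧
      (∀ y ∈ Y, (∀ d ∈ D, y⁻¹ * (d * y * d⁻¹) ∈ N) → (F y)⁻¹ * y ∈ N) := by
  classical
  haveI hn : (N.subgroupOf Y).Normal := ⟨fun n hn g => hNn g g.2 n hn⟩
  haveI hKn' : (K.subgroupOf D).Normal := ⟨fun k hk g => hKn g g.2 k hk⟩
  have hexp : ∀ g : Y ⧸ N.subgroupOf Y, g * g = 1 := fun g => by
    obtain ⟨y, rfl⟩ := QuotientGroup.mk_surjective g
    rw [← QuotientGroup.mk_mul, QuotientGroup.eq_one_iff]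
    exact hsq y y.2
  let : CommGroup (Y ⧸ N.subgroupOf Y) :=
    { (inferInstance : Group (Y ⧸ N.subgroupOf Y)) with
      mul_comm := fun g h => by
        rw [← inv_eq_of_mul_eq_one_right (hexp (g * h)), mul_inv_rev, inv_eq_of_mul_eq_one_right (hexp g),
          inv_eq_of_mul_eq_one_right (hexp h)] }
  let cj : D → Y →* Y := fun d =>
    { toFun := fun y => ⟨(d : G) * y * (d : G)⁻¹, hDY d d.2 y y.2⟩
      map_one' := Subtype.ext (by simp)
      map_mul' := fun y y' => Subtype.ext (by simp [mul_assoc]) }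
  have hcj : ∀ d e : D, ∀ y, cj (d * e) y = cj d (cj e y) := fun d e y => Subtype.ext (by simp [cj, mul_assoc])
  let act : D → (Y ⧸ N.subgroupOf Y) →* (Y ⧸ N.subgroupOf Y) := fun d =>
    QuotientGroup.map _ _ (cj d) fun n hn => hDN d d.2 n hn
  have act_mk : ∀ d y, act d (QuotientGroup.mk y) = QuotientGroup.mk (cj d y) := fun _ _ => rfl
  have act_mul : ∀ d e g, act (d * e) g = act d (act e g) := fun d e g => by
    obtain ⟨y, rfl⟩ := QuotientGroup.mk_surjective g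
    rw [act_mk, act_mk, act_mk, hcj]
  have act_ker : ∀ k : D, (k : G) ∈ K → ∀ g, act k g = g := fun k hk g => by
    obtain ⟨y, rfl⟩ := QuotientGroup.mk_surjective g
    rw [act_mk, eq_comm, QuotientGroup.eq]
    exact hK k hk y y.2
  let : Fintype (D ⧸ K.subgroupOf D) := Fintype.ofFinite _
  have act_out : ∀ d : D, ∀ g, act (QuotientGroup.mk d : D ⧸ K.subgroupOf D).out g = act d g := fun d g => by
    obtain ⟨k, hk⟩ := QuotientGroup.mk_out_eq_mul (K.subgroupOf D) d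
    rw [hk, act_mul, act_ker _ k.2]
  let S : (Y ⧸ N.subgroupOf Y) → (Y ⧸ N.subgroupOf Y) := fun g =>
    ∏ c : D ⧸ K.subgroupOf D, act c.out g
  have S_mul : ∀ g h, S (g * h) = S g * S h := fun g h => by
    simp only [S, map_mul, Finset.prod_mul_distrib]
  have S_right : ∀ d : D, ∀ g, S (act d g) = S g := fun d g => by
    refine Fintype.prod_equiv (Equiv.mulRight (QuotientGroup.mk d : D ⧸ K.subgroupOf D)) _ _ fun c => ?_
    rw [← act_mul, ← act_out (c.out * d), QuotientGroup.mk_mul, QuotientGroup.out_eq']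
    rfl
  have S_left : ∀ d : D, ∀ g, act d (S g) = S g := fun d g => by
    simp only [S, map_prod]
    refine Fintype.prod_equiv (Equiv.mulLeft (QuotientGroup.mk d : D ⧸ K.subgroupOf D)) _ _ fun c => ?_
    rw [← act_mul, ← act_out (d * c.out), QuotientGroup.mk_mul, QuotientGroup.out_eq']
    rfl
  have S_fix : ∀ g, (∀ d, act d g = g) → S g = g := fun g hg => by
    have hcard : Odd (Fintype.card (D ⧸ K.subgroupOf D)) := by
      rw [← Nat.card_eq_fintype_card, ← Subgroup.index_eq_card]; exact hodd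
    obtain ⟨m, hm⟩ := hcard
    show ∏ c : D ⧸ K.subgroupOf D, act c.out g = g
    rw [Finset.prod_congr rfl (fun c _ => hg c.out), Finset.prod_const, Finset.card_univ, hm, pow_succ,
      pow_mul, pow_two, hexp, one_pow, one_mul]
  let F : G → G := fun y => if h : y ∈ Y then ((S (QuotientGroup.mk ⟨y, h⟩)).out : G) else 1
  have F_eq : ∀ y (h : y ∈ Y), ∃ m : F y ∈ Y,
      (QuotientGroup.mk ⟨F y, m⟩ : Y ⧸ N.subgroupOf Y) = S (QuotientGroup.mk ⟨y, h⟩) := fun y h => by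
    have e : F y = ((S (QuotientGroup.mk ⟨y, h⟩)).out : G) := dif_pos h
    refine ⟨e ▸ (S (QuotientGroup.mk ⟨y, h⟩)).out.2, ?_⟩
    calc (QuotientGroup.mk ⟨F y, _⟩ : Y ⧸ N.subgroupOf Y) =
        QuotientGroup.mk (S (QuotientGroup.mk ⟨y, h⟩)).out := congrArg _ (Subtype.ext e)
      _ = _ := QuotientGroup.out_eq' _
  have rel : ∀ {u v : Y}, (QuotientGroup.mk u : Y ⧸ N.subgroupOf Y) = QuotientGroup.mk v →
      (u : G)⁻¹ * v ∈ N := fun {u v} h => (QuotientGroup.eq (s := N.subgroupOf Y)).1 h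
  refine ⟨F, fun y hy => (F_eq y hy).1, fun y hy y' hy' => ?_, fun d hd y hy => ?_, fun d hd y hy => ?_,
    fun y hy hfix => ?_⟩
  · obtain ⟨m1, e1⟩ := F_eq _ (mul_mem hy hy')
    obtain ⟨m2, e2⟩ := F_eq _ hy
    obtain ⟨m3, e3⟩ := F_eq _ hy'
    exact rel (u := ⟨_, m1⟩) (v := ⟨_, m2⟩ * ⟨_, m3⟩) (by
      rw [QuotientGroup.mk_mul, e1, e2, e3, ← S_mul]; rfl)
  · obtain ⟨m1, e1⟩ := F_eq _ (hDY d hd y hy)
    obtain ⟨m2, e2⟩ := F_eq _ hy
    exact rel (u := ⟨_, m1⟩) (v := ⟨_, m2⟩) (by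
      rw [e1, e2]; exact S_right ⟨d, hd⟩ (QuotientGroup.mk ⟨y, hy⟩))
  · obtain ⟨m, e⟩ := F_eq _ hy
    exact rel (u := ⟨_, m⟩) (v := cj ⟨d, hd⟩ ⟨_, m⟩) (by rw [← act_mk, e, S_left])
  · obtain ⟨m, e⟩ := F_eq _ hy
    refine rel (u := ⟨_, m⟩) (v := ⟨y, hy⟩) ?_
    rw [e, S_fix]
    intro d
    rw [act_mk, eq_comm, QuotientGroup.eq]
    exact hfix d d.2

end Cfsg.Lib.SplitRankOne
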