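import Cfsg.Agent.InvolCalc.Dihedral
import Cfsg.Agent.InvolCalc.Isolated
import Cfsg.Agent.SolvStruct.NilpotentMaximal
import Mathlib.GroupTheory.GroupAction.MultipleTransitivity

/-!
Doubly transitive groups of odd degree whose point stabiliser has a nilpotent normal subgroup, transitive on
the other points and holding every 2-element of the stabiliser: the central involutions and their swaps.
-/

set_option autoImplicit false
set_option linter.unusedSectionVars false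
set_option linter.style.haveILetI false

namespace Cfsg.Lib.SplitRankOne

open MulAction Cfsg.Lib.InvolCalc

universe u v

variable {G : Type u} {Ω : Type v} [Group G] [MulAction G Ω]

/-- The involutions of the centre of `U`. -/
def cinv (U : Subgroup G) : Set G := {z | z ∈ U ∧ z ≠ 1 ∧ z * z = 1 ∧ ∀ u ∈ U, Commute u z}

/-- The standing hypotheses. -/
structure Split (G : Type u) (Ω : Type v) [Group G] [Finite G] [MulAction G Ω] (a : Ω) (U : Subgroup G) :
    Prop where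
  faithful : FaithfulSMul G Ω
  two_trans : IsMultiplyPretransitive G Ω 2
  odd_pts : Odd (Nat.card Ω)
  exists_ne : ∃ b : Ω, b ≠ a
  le : U ≤ stabilizer G a
  conj_mem : ∀ g : G, g • a = a → ∀ x ∈ U, g * x * g⁻¹ ∈ U
  nilpotent : Group.IsNilpotent U
  trans : ∀ b c : Ω, b ≠ a → c ≠ a → ∃ u ∈ U, u • b = c
  two_mem : ∀ g : G, g • a = a → ∀ k : ℕ, g ^ 2 ^ k = 1 → g ∈ U
  four : ∃ z ∈ cinv U, ∃ w ∈ cinv U, z ≠ w

/-- The central involutions attached to a point. -/
def cpt (a : Ω) (U : Subgroup G) (p : Ω) : Set G := {z | ∃ g : G, g • a = p ∧ g⁻¹ * z * g ∈ cinv U}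

/-- Being such an involution for some point. -/
def IsCen (a : Ω) (U : Subgroup G) (z : G) : Prop := ∃ p : Ω, z ∈ cpt a U p

/-- The two-point stabiliser. -/
def pairStab (G : Type u) {Ω : Type v} [Group G] [MulAction G Ω] (p r : Ω) : Subgroup G :=
  stabilizer G p ⊓ stabilizer G r

/-- The centraliser in the two-point stabiliser of the central involutions at the first point. -/
def oneKer (a : Ω) (U : Subgroup G) (p r : Ω) : Subgroup G :=
  pairStab G p r ⊓ Subgroup.centralizer (cpt a U p)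

/-- The centraliser in the two-point stabiliser of the central involutions at both points. -/
def biKer (a : Ω) (U : Subgroup G) (p r : Ω) : Subgroup G :=
  oneKer a U p r ⊓ Subgroup.centralizer (cpt a U r)

theorem conj_sq {x g : G} (h : x * x = 1) : g * x * g⁻¹ * (g * x * g⁻¹) = 1 := by
  rw [show g * x * g⁻¹ * (g * x * g⁻¹) = g * (x * x) * g⁻¹ by group, h]; group

theorem conj_ne_one {x g : G} (h : x ≠ 1) : g * x * g⁻¹ ≠ 1 := fun e => h (conj_eq_one_iff.1 e)

theorem fix_conj {x g : G} {p : Ω} (h : x • p = p) : (g * x * g⁻¹) • g • p = g • p := by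
  rw [mul_smul, mul_smul, inv_smul_smul, h]

theorem fix_comm {x y : G} (h : Commute x y) {p : Ω} (hp : x • p = p) : x • y • p = y • p := by
  rw [← mul_smul, h.eq, mul_smul, hp]

theorem sq_pow_two {x : G} (h : x * x = 1) : x ^ 2 ^ 1 = 1 := by rw [pow_one, pow_two, h]

/-- The central involution of an even dihedral group and the classes of its products. -/
theorem central_half {x y : G} [Finite G] (hx : orderOf x = 2) (hy : orderOf y = 2) {k : ℕ}
    (hk : orderOf (x * y) = 2 * k) :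
    (Even k → IsConj x (x * (x * y) ^ k)) ∧ (¬ Even k → IsConj x (y * (x * y) ^ k)) := by
  have h2 : Even (orderOf (x * y)) := hk ▸ even_two_mul k
  have hc := central_spec hx hy h2
  rw [hk, Nat.mul_div_cancel_left k two_pos] at hc
  obtain ⟨-, hcx, hcy⟩ := hc
  refine ⟨fun ⟨i, hi⟩ => isConj_iff.2 ⟨(x * y) ^ (i : ℤ), ?_⟩, fun hodd => ?_⟩
  · rw [conj_rot hx hy, show (2 : ℤ) * i = ((k : ℕ) : ℤ) by rw [hi]; push_cast; ring, zpow_natCast, hcx.eq]
  · obtain ⟨i, hi⟩ := Nat.not_even_iff_odd.1 hodd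
    refine isConj_iff.2 ⟨(x * y) ^ (i : ℤ), ?_⟩
    rw [conj_rot hx hy, ← hcy.eq]
    conv_rhs => arg 2; rw [snd_eq' hx hy]
    rw [← mul_assoc, ← zpow_natCast (x * y) k, ← zpow_add]
    congr 2
    rw [hi]; push_cast; ring

theorem central_cases [Finite G] {x y : G} (hx : x * x = 1) (hx1 : x ≠ 1) (hy : y * y = 1) (hy1 : y ≠ 1)
    (hev : Even (orderOf (x * y))) :
    ∃ e : G, e ≠ 1 ∧ e * e = 1 ∧ Commute e x ∧ Commute e y ∧
      ((IsConj x (x * e) ∧ IsConj y (y * e)) ∨ (IsConj x (y * e) ∧ IsConj y (x * e))) := by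
  have ox := order_two_of_mul_self hx hx1
  have oy := order_two_of_mul_self hy hy1
  obtain ⟨he, hcx, hcy⟩ := central_spec ox oy hev
  obtain ⟨k, hk⟩ := hev
  have hk2 : orderOf (x * y) = 2 * k := by omega
  rw [hk2, Nat.mul_div_cancel_left k two_pos] at he hcx hcy
  have hinv : y * x = (x * y)⁻¹ := by rw [mul_inv_rev, inv_of_order_two ox, inv_of_order_two oy]
  have hsame : (y * x) ^ k = (x * y) ^ k := by rw [hinv, inv_pow, inv_of_order_two he]
  obtain ⟨h1, h2⟩ := central_half ox oy hk2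
  obtain ⟨h3, h4⟩ := central_half oy ox (k := k) (by rw [hinv, orderOf_inv, hk2])
  rw [hsame] at h3 h4
  refine ⟨_, ne_one_of_order_two he, sq_of_order_two he, hcx, hcy, ?_⟩
  rcases em (Even k) with e | e
  · exact Or.inl ⟨h1 e, h3 e⟩
  · exact Or.inr ⟨h2 e, h4 e⟩

/-- An involutive permutation of a finite set with exactly one fixed point forces odd cardinality. -/
theorem odd_of_one_fix {α : Type*} [Finite α] {f : α → α} (hf : ∀ x, f (f x) = x) {x₀ : α}
    (h0 : f x₀ = x₀) (h1 : ∀ x, f x = x → x = x₀) : Odd (Nat.card α) := by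
  classical
  let : Fintype α := Fintype.ofFinite α
  let σ : Equiv.Perm α := ⟨f, f, hf, hf⟩
  have hσ : σ ^ 2 ^ 1 = 1 := Equiv.ext fun x => hf x
  haveI := Fact.mk Nat.prime_two
  by_contra hev
  rw [Nat.not_odd_iff_even, even_iff_two_dvd, Nat.card_eq_fintype_card] at hev
  obtain ⟨x, hx, hne⟩ := Equiv.Perm.exists_fixed_point_of_prime' hev hσ (a := x₀) h0
  exact hne (h1 x hx)

section Facts

variable [Finite G] {a : Ω} {U : Subgroup G} (hS : Split G Ω a U)
include hS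

theorem trans₁ (p r : Ω) : ∃ g : G, g • p = r := by
  haveI := hS.two_trans
  haveI := isPretransitive_of_is_two_pretransitive (G := G) (α := Ω)
  exact exists_smul_eq G p r

theorem trans₂ {p q r s : Ω} (h1 : p ≠ q) (h2 : r ≠ s) : ∃ g : G, g • p = r ∧ g • q = s :=
  is_two_pretransitive_iff.1 hS.two_trans h1 h2

theorem finite_pts : Finite Ω := Finite.of_surjective (fun g : G => g • a) (trans₁ hS a)

theorem exists_other (p : Ω) : ∃ r : Ω, r ≠ p := by
  obtain ⟨b, hb⟩ := hS.exists_ne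
  rcases eq_or_ne p a with rfl | h
  · exact ⟨b, hb⟩
  · exact ⟨a, h.symm⟩

theorem semireg {y : G} (hy : y ∈ U) (hc : ∀ u ∈ U, Commute u y) (hy1 : y ≠ 1) {b : Ω} (hb : y • b = b) :
    b = a := by
  by_contra hba
  refine hy1 (hS.faithful.eq_of_smul_eq_smul fun p : Ω => ?_)
  rw [one_smul]
  rcases eq_or_ne p a with rfl | hp
  · exact hS.le hy
  obtain ⟨u, hu, rfl⟩ := hS.trans b p hba hp
  exact fix_comm (hc u hu).symm hb

theorem cinv_conj {g z : G} (hg : g • a = a) (hz : z ∈ cinv U) : g * z * g⁻¹ ∈ cinv U := by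
  refine ⟨hS.conj_mem g hg z hz.1, conj_ne_one hz.2.1, conj_sq hz.2.2.1, fun u hu => ?_⟩
  have h := hS.conj_mem g⁻¹ (inv_smul_eq_iff.2 hg.symm) u hu
  have := (Commute.conj_iff g).2 (hz.2.2.2 _ h)
  rwa [show g * (g⁻¹ * u * g⁻¹⁻¹) * g⁻¹ = u by group] at this

theorem cpt_self {z : G} : z ∈ cpt a U a ↔ z ∈ cinv U := by
  refine ⟨fun ⟨g, hg, hz⟩ => ?_, fun hz => ⟨1, one_smul _ _, by rwa [inv_one, one_mul, mul_one]⟩⟩
  have := cinv_conj hS hg hz
  rwa [show g * (g⁻¹ * z * g) * g⁻¹ = z by group] at this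

theorem cpt_conj {z : G} {p : Ω} (hz : z ∈ cpt a U p) (g : G) : g * z * g⁻¹ ∈ cpt a U (g • p) := by
  obtain ⟨h, rfl, hz'⟩ := hz
  exact ⟨g * h, mul_smul _ _ _, by rwa [show (g * h)⁻¹ * (g * z * g⁻¹) * (g * h) = h⁻¹ * z * h by group]⟩

theorem cpt_ne {z : G} {p : Ω} (hz : z ∈ cpt a U p) : z ≠ 1 := by
  obtain ⟨h, -, hz'⟩ := hz
  rintro rfl
  exact hz'.2.1 (by group)

theorem cpt_sq {z : G} {p : Ω} (hz : z ∈ cpt a U p) : z * z = 1 := by
  obtain ⟨h, -, hz'⟩ := hz
  have := conj_sq (g := h) hz'.2.2.1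
  rwa [show h * (h⁻¹ * z * h) * h⁻¹ = z by group] at this

theorem cpt_inv {z : G} {p : Ω} (hz : z ∈ cpt a U p) : z⁻¹ = z := inv_eq_of_mul_eq_one_right (cpt_sq hS hz)

theorem cpt_order {z : G} {p : Ω} (hz : z ∈ cpt a U p) : orderOf z = 2 :=
  order_two_of_mul_self (cpt_sq hS hz) (cpt_ne hS hz)

theorem cpt_fix {z : G} {p : Ω} (hz : z ∈ cpt a U p) : z • p = p := by
  obtain ⟨h, rfl, hz'⟩ := hz
  have := fix_conj (g := h) (show (h⁻¹ * z * h) • a = a from hS.le hz'.1)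
  rwa [show h * (h⁻¹ * z * h) * h⁻¹ = z by group] at this

theorem cpt_only {z : G} {p r : Ω} (hz : z ∈ cpt a U p) (hr : z • r = r) : r = p := by
  obtain ⟨h, rfl, hz'⟩ := hz
  have h1 := semireg hS hz'.1 hz'.2.2.2 hz'.2.1 (b := h⁻¹ • r)
    (by rw [mul_smul, mul_smul, smul_inv_smul, hr])
  exact inv_smul_eq_iff.1 h1

theorem cpt_point {z : G} {p r : Ω} (hz : z ∈ cpt a U p) (hr : z ∈ cpt a U r) : r = p :=
  cpt_only hS hz (cpt_fix hS hr)

theorem cpt_of_isConj {z w : G} {p r : Ω} (hz : z ∈ cpt a U p) (h : IsConj z w) (hw : w • r = r) :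
    w ∈ cpt a U r := by
  obtain ⟨g, rfl⟩ := isConj_iff.1 h
  have := cpt_conj hS hz g
  rwa [cpt_only hS this hw]

theorem exists_cpt (p : Ω) : ∃ z ∈ cpt a U p, ∃ w ∈ cpt a U p, z ≠ w := by
  obtain ⟨g, rfl⟩ := trans₁ hS a p
  obtain ⟨z, hz, w, hw, hne⟩ := hS.four
  exact ⟨_, cpt_conj hS ((cpt_self hS).2 hz) g, _, cpt_conj hS ((cpt_self hS).2 hw) g,
    fun e => hne (mul_left_cancel (mul_right_cancel e))⟩

theorem exists_cpt_ne (p : Ω) (z : G) : ∃ w ∈ cpt a U p, w ≠ z := by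
  obtain ⟨w, hw, w', hw', hne⟩ := exists_cpt hS p
  rcases eq_or_ne w z with rfl | h
  · exact ⟨w', hw', hne.symm⟩
  · exact ⟨w, hw, h⟩

theorem cpt_mul {z w : G} {p : Ω} (hz : z ∈ cpt a U p) (hw : w ∈ cpt a U p) (hne : z ≠ w) :
    z * w ∈ cpt a U p := by
  obtain ⟨g, rfl, hz'⟩ := hz
  have hw' : g⁻¹ * w * g ∈ cinv U := by
    have := cpt_conj hS hw g⁻¹
    rwa [inv_inv, inv_smul_smul, cpt_self hS] at this
  refine ⟨g, rfl, ?_⟩
  rw [show g⁻¹ * (z * w) * g = (g⁻¹ * z * g) * (g⁻¹ * w * g) by group]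
  set x := g⁻¹ * z * g with hxdef
  set y := g⁻¹ * w * g with hydef
  have hc : Commute x y := hw'.2.2.2 x hz'.1
  refine ⟨mul_mem hz'.1 hw'.1, fun e => hne ?_, ?_, fun u hu => (hz'.2.2.2 u hu).mul_right (hw'.2.2.2 u hu)⟩
  · have e' : x = y := (mul_eq_one_iff_eq_inv.1 e).trans (inv_eq_of_mul_eq_one_right hw'.2.2.1)
    rw [hxdef, hydef] at e'
    exact mul_left_cancel (mul_right_cancel e')
  · rw [show x * y * (x * y) = x * (y * x) * y by group, ← hc.eq,
      show x * (x * y) * y = x * x * (y * y) by group, hz'.2.2.1, hw'.2.2.1, one_mul]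

/-- A product of two 2-elements fixing a point is a 2-element. -/
theorem two_mul {x y : G} {p : Ω} (hx : x • p = p) (hy : y • p = p) {j k : ℕ} (hj : x ^ 2 ^ j = 1)
    (hk : y ^ 2 ^ k = 1) : ∃ i : ℕ, (x * y) ^ 2 ^ i = 1 := by
  haveI := Fact.mk Nat.prime_two
  obtain ⟨g, rfl⟩ := trans₁ hS a p
  have key : ∀ {x : G} {j : ℕ}, x • g • a = g • a → x ^ 2 ^ j = 1 → g⁻¹ * x * g ∈ U := fun {x j} hx hj => by
    refine hS.two_mem _ ?_ j ?_
    · rw [mul_smul, mul_smul, hx, inv_smul_smul]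
    · have h : (g⁻¹ * x * g⁻¹⁻¹) ^ 2 ^ j = g⁻¹ * x ^ 2 ^ j * g⁻¹⁻¹ := conj_pow
      rw [inv_inv] at h
      rw [h, hj, mul_one, inv_mul_cancel]
  have hx' := key hx hj
  have hy' := key hy hk
  haveI := hS.nilpotent
  obtain ⟨S⟩ : Nonempty (Sylow 2 U) := inferInstance
  have h03 := (Group.isNilpotent_of_finite_tfae (G := U)).out 0 3
  haveI hSn : (S : Subgroup U).Normal := h03.1 hS.nilpotent 2 ‹_› S
  have mem : ∀ (v : U) (j : ℕ), v ^ 2 ^ j = 1 → v ∈ (S : Subgroup U) := fun v j hv => by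
    have hp : IsPGroup 2 (Subgroup.zpowers v) := by
      obtain ⟨i, -, hi⟩ := (Nat.dvd_prime_pow Nat.prime_two).1 (orderOf_dvd_of_pow_eq_one hv)
      exact IsPGroup.of_card (n := i) (by rw [Nat.card_zpowers, hi])
    exact S.is_maximal' (hp.to_sup_of_normal_right S.isPGroup') le_sup_right
      ▸ (le_sup_left : Subgroup.zpowers v ≤ Subgroup.zpowers v ⊔ (S : Subgroup U)) (Subgroup.mem_zpowers v)
  have hm := mul_mem (mem ⟨_, hx'⟩ j (Subtype.ext (by
      rw [SubmonoidClass.coe_pow]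
      have h : (g⁻¹ * x * g⁻¹⁻¹) ^ 2 ^ j = g⁻¹ * x ^ 2 ^ j * g⁻¹⁻¹ := conj_pow
      rw [inv_inv] at h
      show (g⁻¹ * x * g) ^ 2 ^ j = 1
      rw [h, hj, mul_one, inv_mul_cancel])))
    (mem ⟨_, hy'⟩ k (Subtype.ext (by
      rw [SubmonoidClass.coe_pow]
      have h : (g⁻¹ * y * g⁻¹⁻¹) ^ 2 ^ k = g⁻¹ * y ^ 2 ^ k * g⁻¹⁻¹ := conj_pow
      rw [inv_inv] at h
      show (g⁻¹ * y * g) ^ 2 ^ k = 1
      rw [h, hk, mul_one, inv_mul_cancel])))
  obtain ⟨i, hi⟩ := S.isPGroup' ⟨_, hm⟩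
  refine ⟨i, ?_⟩
  have h1 : ((g⁻¹ * x * g) * (g⁻¹ * y * g)) ^ 2 ^ i = 1 :=
    congrArg (fun w : (S : Subgroup U) => ((w : U) : G)) hi
  rw [show g⁻¹ * x * g * (g⁻¹ * y * g) = g⁻¹ * (x * y) * g⁻¹⁻¹ by group, conj_pow] at h1
  exact conj_eq_one_iff.1 h1

theorem cpt_comm {z x : G} {p : Ω} (hz : z ∈ cpt a U p) (hx : x • p = p) {k : ℕ} (hk : x ^ 2 ^ k = 1) :
    Commute z x := by
  obtain ⟨g, rfl, hz'⟩ := hz
  have h1 : (g⁻¹ * x * g) • a = a := by rw [mul_smul, mul_smul, hx, inv_smul_smul]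
  have h2 : (g⁻¹ * x * g) ^ 2 ^ k = 1 := by
    have h : (g⁻¹ * x * g⁻¹⁻¹) ^ 2 ^ k = g⁻¹ * x ^ 2 ^ k * g⁻¹⁻¹ := conj_pow
    rw [inv_inv] at h
    rw [h, hk, mul_one, inv_mul_cancel]
  have := (Commute.conj_iff g).2 (hz'.2.2.2 _ (hS.two_mem _ h1 k h2))
  rw [show g * (g⁻¹ * x * g) * g⁻¹ = x by group, show g * (g⁻¹ * z * g) * g⁻¹ = z by group] at this
  exact this.symm

theorem cpt_U {z u : G} (hz : z ∈ cpt a U a) (hu : u ∈ U) : Commute u z :=
  ((cpt_self hS).1 hz).2.2.2 u hu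

/-- Two central involutions at different points have a product of odd order. -/
theorem odd_mul {z w : G} {p r : Ω} (hz : z ∈ cpt a U p) (hw : w ∈ cpt a U r) (hne : p ≠ r) :
    Odd (orderOf (z * w)) := by
  by_contra hev
  obtain ⟨e, he1, he2, hez, hew, hcase⟩ := central_cases (cpt_sq hS hz) (cpt_ne hS hz) (cpt_sq hS hw)
    (cpt_ne hS hw) (Nat.not_odd_iff_even.1 hev)
  have hep : e • p = p := cpt_only hS hz (fix_comm hez.symm (cpt_fix hS hz))
  have her : e • r = r := cpt_only hS hw (fix_comm hew.symm (cpt_fix hS hw))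
  rcases hcase with ⟨h, -⟩ | ⟨h, -⟩
  · have h' := cpt_of_isConj hS hz h (r := p) (by rw [mul_smul, hep, cpt_fix hS hz])
    have := cpt_mul hS hz h' (fun e' => he1 (mul_left_cancel (e'.symm.trans (mul_one z).symm)))
    rw [← mul_assoc, cpt_sq hS hz, one_mul] at this
    exact hne (cpt_only hS this her).symm
  · have h' := cpt_of_isConj hS hz h (r := r) (by rw [mul_smul, her, cpt_fix hS hw])
    have := cpt_mul hS hw h' (fun e' => he1 (mul_left_cancel (e'.symm.trans (mul_one w).symm)))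
    rw [← mul_assoc, cpt_sq hS hw, one_mul] at this
    exact hne (cpt_only hS this hep)

theorem isConj_cpt {z w : G} {p r : Ω} (hz : z ∈ cpt a U p) (hw : w ∈ cpt a U r) : IsConj z w := by
  have key : ∀ {z w : G} {p r : Ω}, z ∈ cpt a U p → w ∈ cpt a U r → p ≠ r → IsConj z w := fun hz hw hne => by
    obtain ⟨d, -, hd⟩ := conj_of_odd (cpt_order hS hz) (cpt_order hS hw) (odd_mul hS hz hw hne)
    exact isConj_iff.2 ⟨d, hd⟩
  by_cases h : p = r
  · obtain ⟨s, hs⟩ := exists_other hS p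
    obtain ⟨y, hy, -⟩ := exists_cpt hS s
    exact (key hz hy hs.symm).trans (key hy hw (h ▸ hs))
  · exact key hz hw h

theorem cen_sq {t : G} (ht : IsCen a U t) : t * t = 1 := ht.elim fun _ h => cpt_sq hS h

theorem cen_conj {t : G} (ht : IsCen a U t) (g : G) : IsCen a U (g * t * g⁻¹) :=
  ht.elim fun p h => ⟨g • p, cpt_conj hS h g⟩

/-- Central involutions at different points are exchanged by exactly one central involution. -/
theorem exists_swap {z w : G} {p r : Ω} (hz : z ∈ cpt a U p) (hw : w ∈ cpt a U r) (hne : p ≠ r) :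
    ∃ t : G, IsCen a U t ∧ t * z * t = w ∧ t • p = r ∧ t • r = p := by
  have oz := cpt_order hS hz
  have ow := cpt_order hS hw
  obtain ⟨m, hm⟩ := odd_mul hS hz hw hne
  set R := z * w with hR
  have hpow : R ^ (2 * (m + 1)) = R := by
    rw [show 2 * (m + 1) = (2 * m + 1) + 1 by ring, ← hm, pow_succ, pow_orderOf_eq_one, one_mul]
  have hflip : ∀ i : ℤ, z * R ^ i = R ^ (-i) * z := flip_zpow oz ow
  set t := z * R ^ ((m + 1 : ℕ) : ℤ) with ht
  have ht2 : t * t = 1 := by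
    calc t * t = z * R ^ ((m + 1 : ℕ) : ℤ) * (z * R ^ ((m + 1 : ℕ) : ℤ)) := rfl
      _ = R ^ (-((m + 1 : ℕ) : ℤ)) * z * (z * R ^ ((m + 1 : ℕ) : ℤ)) := by rw [hflip]
      _ = R ^ (-((m + 1 : ℕ) : ℤ)) * (z * z) * R ^ ((m + 1 : ℕ) : ℤ) := by group
      _ = 1 := by rw [cpt_sq hS hz, mul_one, ← zpow_add, neg_add_cancel, zpow_zero]
  have htz : t * z * t = w := by
    calc t * z * t = z * R ^ ((m + 1 : ℕ) : ℤ) * z * (z * R ^ ((m + 1 : ℕ) : ℤ)) := rfl
      _ = z * (R ^ ((m + 1 : ℕ) : ℤ) * (z * z) * R ^ ((m + 1 : ℕ) : ℤ)) := by group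
      _ = z * R := by
        rw [cpt_sq hS hz, mul_one, ← zpow_add, zpow_natCast_add_natCast, ← _root_.two_mul, zpow_natCast, hpow]
      _ = w := by rw [hR, ← mul_assoc, cpt_sq hS hz, one_mul]
  have ht1 : t ≠ 1 := fun e => hne (cpt_point hS hw (by rw [← htz, e, one_mul, mul_one]; exact hz))
  have hodd : Odd (orderOf (z * t)) := by
    rw [ht, ← mul_assoc, cpt_sq hS hz, one_mul, zpow_natCast]
    exact (odd_mul hS hz hw hne).of_dvd_nat (orderOf_pow_dvd _)
  obtain ⟨d, -, hd⟩ := conj_of_odd oz (order_two_of_mul_self ht2 ht1) hodd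
  have hcen : IsCen a U t := hd ▸ cen_conj hS ⟨p, hz⟩ d
  have hpr : t • p = r := by
    have := cpt_conj hS hz t
    rw [inv_eq_of_mul_eq_one_right ht2, htz] at this
    exact cpt_point hS hw this
  exact ⟨t, hcen, htz, hpr, by rw [← hpr, ← mul_smul, ht2, one_smul]⟩
where
  zpow_natCast_add_natCast {R : G} {i : ℕ} : R ^ ((i : ℤ) + i) = R ^ ((i + i : ℕ) : ℤ) := by rw [Nat.cast_add]

theorem swap_unique {z w t t' : G} {p r : Ω} (hz : z ∈ cpt a U p) (hw : w ∈ cpt a U r) (hne : p ≠ r)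
    (ht : IsCen a U t) (ht' : IsCen a U t') (h : t * z * t = w) (h' : t' * z * t' = w) : t = t' := by
  have key : ∀ {t : G}, IsCen a U t → t * z * t = w → Odd (orderOf (z * t)) ∧ z * t * (z * t) = z * w := by
    intro t ht h
    refine ⟨?_, by rw [← h]; group⟩
    obtain ⟨c, hc⟩ := ht
    refine odd_mul hS hz hc fun e => hne (cpt_point hS hw ?_)
    subst e
    have hcm : Commute t z := cpt_comm hS hc (cpt_fix hS hz) (sq_pow_two (cpt_sq hS hz))
    rw [← h, hcm.eq, mul_assoc, cpt_sq hS hc, mul_one]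
    exact hz
  obtain ⟨o1, e1⟩ := key ht h
  obtain ⟨o2, e2⟩ := key ht' h'
  exact mul_left_cancel (Cfsg.Lib.Isolated.eq_of_sq_eq o1 o2 (e1.trans e2.symm))

theorem swap_commute {z w t x : G} {p r : Ω} (hz : z ∈ cpt a U p) (hw : w ∈ cpt a U r) (hne : p ≠ r)
    (ht : IsCen a U t) (h : t * z * t = w) (hxz : Commute x z) (hxw : Commute x w) : Commute x t := by
  have := swap_unique hS hz hw hne (cen_conj hS ht x) ht
    (by
      calc x * t * x⁻¹ * z * (x * t * x⁻¹) = x * t * (x⁻¹ * z * x) * t * x⁻¹ := by group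
        _ = x * t * z * t * x⁻¹ := by rw [mul_assoc x⁻¹ z, ← hxz.eq, inv_mul_cancel_left]
        _ = x * (t * z * t) * x⁻¹ := by group
        _ = w := by rw [h, hxw.eq, mul_inv_cancel_right]) h
  exact mul_inv_eq_iff_eq_mul.1 this

/-- Points with central involutions commuting with `x` are exchanged by something commuting with `x`. -/
theorem exists_swap_comm {x z w : G} {p r : Ω} (hz : z ∈ cpt a U p) (hw : w ∈ cpt a U r)
    (hxz : Commute x z) (hxw : Commute x w) : ∃ g : G, Commute x g ∧ g • p = r := by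
  by_cases h : p = r
  · exact ⟨1, Commute.one_right x, h ▸ one_smul _ _⟩
  obtain ⟨t, ht, htz, htp, -⟩ := exists_swap hS hz hw h
  exact ⟨t, swap_commute hS hz hw h ht htz hxz hxw, htp⟩

theorem mem_pairStab {g : G} {p r : Ω} : g ∈ pairStab G p r ↔ g • p = p ∧ g • r = r := Iff.rfl

theorem mem_oneKer {g : G} {p r : Ω} :
    g ∈ oneKer a U p r ↔ g • p = p ∧ g • r = r ∧ ∀ z ∈ cpt a U p, Commute g z := by
  rw [oneKer, Subgroup.mem_inf, mem_pairStab hS, Subgroup.mem_centralizer_iff, and_assoc]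
  exact ⟨fun h => ⟨h.1, h.2.1, fun z hz => (h.2.2 z hz).symm⟩, fun h => ⟨h.1, h.2.1, fun z hz => (h.2.2 z hz).symm⟩⟩

theorem mem_biKer {g : G} {p r : Ω} : g ∈ biKer a U p r ↔
    g • p = p ∧ g • r = r ∧ (∀ z ∈ cpt a U p, Commute g z) ∧ ∀ z ∈ cpt a U r, Commute g z := by
  rw [biKer, Subgroup.mem_inf, mem_oneKer hS, Subgroup.mem_centralizer_iff]
  exact ⟨fun h => ⟨h.1.1, h.1.2.1, h.1.2.2, fun z hz => (h.2 z hz).symm⟩,
    fun h => ⟨⟨h.1, h.2.1, h.2.2.1⟩, fun z hz => (h.2.2.2 z hz).symm⟩⟩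

theorem cpt_centralizer_conj {g k : G} {p : Ω} (h : ∀ z ∈ cpt a U p, Commute k z) :
    ∀ z ∈ cpt a U (g • p), Commute (g * k * g⁻¹) z := by
  intro z hz
  have h1 := cpt_conj hS hz g⁻¹
  rw [inv_smul_smul, inv_inv] at h1
  have := (Commute.conj_iff g).2 (h _ h1)
  rwa [show g * (g⁻¹ * z * g) * g⁻¹ = z by group] at this

theorem oneKer_conj {g k : G} {p r : Ω} (h : k ∈ oneKer a U p r) :
    g * k * g⁻¹ ∈ oneKer a U (g • p) (g • r) := by
  obtain ⟨h1, h2, h3⟩ := (mem_oneKer hS).1 h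
  exact (mem_oneKer hS).2 ⟨fix_conj h1, fix_conj h2, cpt_centralizer_conj hS h3⟩

theorem biKer_conj {g k : G} {p r : Ω} (h : k ∈ biKer a U p r) : g * k * g⁻¹ ∈ biKer a U (g • p) (g • r) := by
  obtain ⟨h1, h2, h3, h4⟩ := (mem_biKer hS).1 h
  exact (mem_biKer hS).2 ⟨fix_conj h1, fix_conj h2, cpt_centralizer_conj hS h3, cpt_centralizer_conj hS h4⟩

theorem biKer_card (g : G) (p r : Ω) :
    Nat.card (biKer a U (g • p) (g • r)) = Nat.card (biKer a U p r) := by
  refine (Nat.card_eq_of_bijective (fun k : biKer a U p r =>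
    (⟨g * k * g⁻¹, biKer_conj hS k.2⟩ : biKer a U (g • p) (g • r)))
    ⟨fun k l h => Subtype.ext (mul_left_cancel (mul_right_cancel (congrArg Subtype.val h))), fun k => ?_⟩).symm
  have := biKer_conj hS (g := g⁻¹) k.2
  rw [inv_smul_smul, inv_smul_smul, inv_inv] at this
  exact ⟨⟨_, this⟩, Subtype.ext (by group)⟩

/-- An element fixing two points, centralising the central involutions at the first and one at the second,
centralises all of those at the second. -/
theorem oneKer_semireg {k w : G} {p r : Ω} (hne : p ≠ r) (hk : k ∈ oneKer a U p r) (hw : w ∈ cpt a U r)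
    (hkw : Commute k w) : k ∈ biKer a U p r := by
  obtain ⟨h1, h2, h3⟩ := (mem_oneKer hS).1 hk
  refine (mem_biKer hS).2 ⟨h1, h2, h3, fun w' hw' => ?_⟩
  obtain ⟨z, hz, -⟩ := exists_cpt hS p
  obtain ⟨t, ht, htz, htp, htr⟩ := exists_swap hS hz hw hne
  have hkt : Commute k t := swap_commute hS hz hw hne ht htz (h3 z hz) hkw
  have ht2 := cen_sq hS ht
  have hti : t⁻¹ = t := inv_eq_of_mul_eq_one_right ht2
  have h' := cpt_conj hS hw' t
  rw [htr, hti] at h'
  have := (Commute.conj_iff t).2 (h3 _ h')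
  rwa [hkt.symm.eq, mul_inv_cancel_right, hti,
    show t * (t * w' * t) * t = t * t * w' * (t * t) by group, ht2, one_mul, mul_one] at this

/-- The elements fixing `p` and `r` that commute with whatever centralises both kinds of central involutions
are transitive on the central involutions at `p`. -/
theorem pair_trans {z z' : G} {p r : Ω} (hne : p ≠ r) (hz : z ∈ cpt a U p) (hz' : z' ∈ cpt a U p) :
    ∃ d : G, d • p = p ∧ d • r = r ∧ d * z * d⁻¹ = z' ∧
      ∀ k : G, (∀ y ∈ cpt a U p, Commute k y) → (∀ y ∈ cpt a U r, Commute k y) → Commute k d := by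
  obtain ⟨w, hw, -⟩ := exists_cpt hS r
  obtain ⟨t, ht, htz, htp, htr⟩ := exists_swap hS hz hw hne
  obtain ⟨t', ht', htz', htp', htr'⟩ := exists_swap hS hz' hw hne
  have ht2 := cen_sq hS ht
  have ht2' := cen_sq hS ht'
  refine ⟨t' * t, by rw [mul_smul, htp, htr'], by rw [mul_smul, htr, htp'], ?_, fun k h1 h2 =>
    (swap_commute hS hz' hw hne ht' htz' (h1 z' hz') (h2 w hw)).mul_right
      (swap_commute hS hz hw hne ht htz (h1 z hz) (h2 w hw))⟩
  rw [mul_inv_rev, inv_eq_of_mul_eq_one_right ht2, inv_eq_of_mul_eq_one_right ht2',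
    show t' * t * z * (t * t') = t' * (t * z * t) * t' by group, htz, ← htz',
    show t' * (t' * z' * t') * t' = t' * t' * z' * (t' * t') by group, ht2', one_mul, mul_one]

end Facts

end Cfsg.Lib.SplitRankOne
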