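import Cfsg.Agent.SplitRankOne.Basic

/-!
The fixed configuration of a Sylow subgroup of the kernel at two points, and the case of a trivial kernel.
-/

set_option autoImplicit false
set_option linter.unusedSectionVars false
set_option linter.style.haveILetI false

namespace Cfsg.Lib.SplitRankOne

open MulAction

universe u v

variable {G : Type u} {Ω : Type v} [Group G] [MulAction G Ω]

theorem cpt_translate {a : Ω} {U : Subgroup G} {z : G} {p : Ω} (hz : z ∈ cpt a U p) (g : G) :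
    g * z * g⁻¹ ∈ cpt a U (g • p) := by
  obtain ⟨h, rfl, hz'⟩ := hz
  exact ⟨g * h, mul_smul _ _ _, by rwa [show (g * h)⁻¹ * (g * z * g⁻¹) * (g * h) = h⁻¹ * z * h by group]⟩

/-- The points at which `Y` centralises the central involutions. -/
abbrev FixY (a : Ω) (U Y : Subgroup G) : Type v :=
  {c : Ω // ∀ y ∈ Y, y • c = c ∧ ∀ z ∈ cpt a U c, Commute y z}

instance fixYAction (a : Ω) (U Y : Subgroup G) :
    MulAction (Subgroup.normalizer (Y : Set G)) (FixY a U Y) where
  smul n c := ⟨(n : G) • (c : Ω), fun y hy => by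
    have hy' : (n : G)⁻¹ * y * n ∈ Y := (Subgroup.mem_normalizer_iff''.1 n.2 y).1 hy
    obtain ⟨h1, h2⟩ := c.2 _ hy'
    refine ⟨?_, fun z hz => ?_⟩
    · have := fix_conj (g := (n : G)) h1
      rwa [show (n : G) * ((n : G)⁻¹ * y * n) * (n : G)⁻¹ = y by group] at this
    · have hz' := cpt_translate hz (n : G)⁻¹
      rw [inv_smul_smul, inv_inv] at hz'
      have := (Commute.conj_iff (n : G)).2 (h2 _ hz')
      rwa [show (n : G) * ((n : G)⁻¹ * y * n) * (n : G)⁻¹ = y by group,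
        show (n : G) * ((n : G)⁻¹ * z * n) * (n : G)⁻¹ = z by group] at this⟩
  one_smul c := Subtype.ext (one_smul G (c : Ω))
  mul_smul m n c := Subtype.ext (mul_smul (m : G) (n : G) (c : Ω))

/-- The kernel of that action. -/
abbrev fixKer (a : Ω) (U Y : Subgroup G) : Subgroup (Subgroup.normalizer (Y : Set G)) :=
  (MulAction.toPermHom (Subgroup.normalizer (Y : Set G)) (FixY a U Y)).ker

/-- The group induced. -/
abbrev FixGrp (a : Ω) (U Y : Subgroup G) : Type u := Subgroup.normalizer (Y : Set G) ⧸ fixKer a U Y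

instance fixGrpAction (a : Ω) (U Y : Subgroup G) : MulAction (FixGrp a U Y) (FixY a U Y) :=
  MulAction.compHom (FixY a U Y)
    (QuotientGroup.kerLift (MulAction.toPermHom (Subgroup.normalizer (Y : Set G)) (FixY a U Y)))

theorem fixGrp_coe {a : Ω} {U Y : Subgroup G} (n : Subgroup.normalizer (Y : Set G)) (c : FixY a U Y) :
    (((QuotientGroup.mk n : FixGrp a U Y) • c : FixY a U Y) : Ω) = (n : G) • (c : Ω) := rfl

instance fixGrp_faithful (a : Ω) (U Y : Subgroup G) : FaithfulSMul (FixGrp a U Y) (FixY a U Y) :=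
  ⟨fun {_ _} e => QuotientGroup.kerLift_injective _ (Equiv.ext e)⟩

/-- The image of `U`. -/
def imgU (a : Ω) (U Y : Subgroup G) : Subgroup (FixGrp a U Y) :=
  (U.subgroupOf (Subgroup.normalizer (Y : Set G))).map (QuotientGroup.mk' (fixKer a U Y))

/-- `Y` is a largest `p`-subgroup of the kernel at `a` and `b`. -/
def IsMaxP (a : Ω) (U : Subgroup G) (b : Ω) (p : ℕ) (Y : Subgroup G) : Prop :=
  Y ≤ biKer a U a b ∧ IsPGroup p Y ∧
    ∀ Y' : Subgroup G, IsPGroup p Y' → Y' ≤ biKer a U a b → Nat.card Y' ≤ Nat.card Y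

/-- The inductive hypothesis. -/
def TwoIH (N : ℕ) : Prop :=
  ∀ (H : Type u) [Group H] [Finite H] (Λ : Type v) [MulAction H Λ] (c : Λ) (R : Subgroup H),
    Nat.card H < N → Split H Λ c R → IsPGroup 2 R

section Facts

variable [Finite G] {a b : Ω} {U Y : Subgroup G} {p : ℕ} (hS : Split G Ω a U)
include hS

theorem exists_maxP [Fact p.Prime] (b : Ω) (hdvd : p ∣ Nat.card (biKer a U a b)) :
    ∃ Y : Subgroup G, IsMaxP a U b p Y ∧ Y ≠ ⊥ := by
  obtain ⟨R⟩ : Nonempty (Sylow p (biKer a U a b)) := inferInstance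
  refine ⟨(R : Subgroup (biKer a U a b)).map (biKer a U a b).subtype,
    ⟨Subgroup.map_subtype_le _, R.isPGroup'.map _, fun Y' hY' hle => ?_⟩, ?_⟩
  · rw [Subgroup.card_map_of_injective (biKer a U a b).subtype_injective]
    obtain ⟨S, hS'⟩ := (hY'.comap_subtype (K := biKer a U a b)).exists_le_sylow
    obtain ⟨g, rfl⟩ := exists_smul_eq (biKer a U a b) R S
    calc Nat.card Y' = Nat.card (Y'.subgroupOf (biKer a U a b)) :=
          (Nat.card_congr (Subgroup.subgroupOfEquivOfLe hle).toEquiv).symm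
      _ ≤ Nat.card ↥((g • R : Sylow p (biKer a U a b)) : Subgroup (biKer a U a b)) :=
          Subgroup.card_le_of_le hS'
      _ = _ := (Nat.card_congr (Sylow.equiv R (g • R)).toEquiv).symm
  · intro h
    rw [Subgroup.map_eq_bot_iff_of_injective _ (biKer a U a b).subtype_injective] at h
    exact R.ne_bot_of_dvd_card hdvd h

/-- Correcting an element of `U` into the normaliser of `Y`. -/
theorem adjust [Fact p.Prime] (hY : IsMaxP a U b p Y) {u : G} (hu : u ∈ U)
    (h : ∀ y ∈ Y, u⁻¹ * y * u ∈ biKer a U a b) :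
    ∃ v ∈ U, v ∈ biKer a U a b ∧ u * v ∈ Subgroup.normalizer (Y : Set G) := by
  obtain ⟨hle, hp, hmax⟩ := hY
  have hV1 : ∀ y ∈ Y, ∀ v ∈ U ⊓ biKer a U a b, y * v * y⁻¹ ∈ U ⊓ biKer a U a b := fun y hy v hv =>
    Subgroup.mem_inf.2 ⟨hS.conj_mem y ((mem_biKer hS).1 (hle hy)).1 v (Subgroup.mem_inf.1 hv).1,
      mul_mem (mul_mem (hle hy) (Subgroup.mem_inf.1 hv).2) (inv_mem (hle hy))⟩
  have hn : Y ≤ Subgroup.normalizer ((U ⊓ biKer a U a b : Subgroup G) : Set G) := fun y hy => by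
    rw [Subgroup.mem_normalizer_iff]
    refine fun v => ⟨hV1 y hy v, fun hv => ?_⟩
    have := hV1 y⁻¹ (inv_mem hy) _ hv
    simpa [mul_assoc] using this
  set M := (U ⊓ biKer a U a b) ⊔ Y
  have hM : M ≤ biKer a U a b := sup_le inf_le_right hle
  let Y' := Y.map (MulAut.conj u⁻¹).toMonoidHom
  have hY'M : Y' ≤ M := by
    rintro _ ⟨y, hy, rfl⟩
    show u⁻¹ * y * u⁻¹⁻¹ ∈ M
    rw [inv_inv, show u⁻¹ * y * u = (u⁻¹ * (y * u * y⁻¹)) * y by group]
    refine Subgroup.mul_mem_sup (Subgroup.mem_inf.2 ⟨mul_mem (inv_mem hu)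
      (hS.conj_mem y ((mem_biKer hS).1 (hle hy)).1 u hu), ?_⟩) hy
    rw [show u⁻¹ * (y * u * y⁻¹) = u⁻¹ * y * u * y⁻¹ by group]
    exact mul_mem (h y hy) (inv_mem (hle hy))
  have hcard : Nat.card Y' = Nat.card Y := Subgroup.card_map_of_injective (MulAut.conj u⁻¹).injective
  have key : ∀ X : Subgroup G, X ≤ M → IsPGroup p X → Nat.card X = Nat.card Y →
      ∃ R : Sylow p M, (R : Subgroup M).map M.subtype = X := by
    intro X hXM hX hXc
    obtain ⟨R, hR⟩ := (hX.comap_subtype (K := M)).exists_le_sylow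
    refine ⟨R, (Subgroup.eq_of_le_of_card_ge ?_ ?_).symm⟩
    · rw [← Subgroup.map_subgroupOf_eq_of_le hXM]
      exact Subgroup.map_mono hR
    · rw [hXc]
      exact hmax _ (R.isPGroup'.map _) ((Subgroup.map_subtype_le _).trans hM)
  obtain ⟨R, hR⟩ := key Y le_sup_right hp rfl
  obtain ⟨R', hR'⟩ := key Y' hY'M (hp.map _) hcard
  obtain ⟨⟨m, hm⟩, hm'⟩ := exists_smul_eq M R R'
  have hm2 : Y' = Y.map (MulAut.conj m).toMonoidHom := by
    rw [← hR', ← hm', ← hR, Subgroup.map_map]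
    exact (Subgroup.map_map (R : Subgroup M) M.subtype (MulAut.conj (⟨m, hm⟩ : M)).toMonoidHom).trans rfl
  have hm3 : m ∈ (((U ⊓ biKer a U a b) ⊔ Y : Subgroup G) : Set G) := hm
  rw [Subgroup.coe_mul_of_right_le_normalizer_left _ _ hn] at hm3
  obtain ⟨v, hv, y, hy, rfl⟩ := hm3
  refine ⟨v, (Subgroup.mem_inf.1 hv).1, (Subgroup.mem_inf.1 hv).2, ?_⟩
  have hfin : ∀ x ∈ Y, u * v * x * (u * v)⁻¹ ∈ Y := by
    intro x hx
    have : v * y * (y⁻¹ * x * y) * (v * y)⁻¹ ∈ Y' := hm2 ▸ ⟨y⁻¹ * x * y, mul_mem (mul_mem (inv_mem hy) hx) hy, rfl⟩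
    obtain ⟨x', hx', e⟩ := this
    change u⁻¹ * x' * u⁻¹⁻¹ = _ at e
    rw [show u * v * x * (u * v)⁻¹ = u * (v * y * (y⁻¹ * x * y) * (v * y)⁻¹) * u⁻¹ by group, ← e,
      show u * (u⁻¹ * x' * u⁻¹⁻¹) * u⁻¹ = x' by group]
    exact hx'
  haveI : Finite (Y : Set G) := Subtype.finite
  exact Subgroup.mem_normalizer_fintype hfin

theorem centralizing_mem_normalizer {g : G} (h : ∀ y ∈ Y, Commute y g) :
    g ∈ Subgroup.normalizer (Y : Set G) :=
  Subgroup.centralizer_le_normalizer _ (Subgroup.mem_centralizer_iff.2 fun y hy => (h y hy).eq)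

theorem fix_a_mem (hY : IsMaxP a U b p Y) :
    ∀ y ∈ Y, y • a = a ∧ ∀ z ∈ cpt a U a, Commute y z := fun _ hy =>
  ⟨((mem_biKer hS).1 (hY.1 hy)).1, ((mem_biKer hS).1 (hY.1 hy)).2.2.1⟩

theorem fix_b_mem (hY : IsMaxP a U b p Y) :
    ∀ y ∈ Y, y • b = b ∧ ∀ z ∈ cpt a U b, Commute y z := fun _ hy =>
  ⟨((mem_biKer hS).1 (hY.1 hy)).2.1, ((mem_biKer hS).1 (hY.1 hy)).2.2.2⟩

theorem fix_trans [Fact p.Prime] (hb : b ≠ a) (hY : IsMaxP a U b p Y) {c : FixY a U Y} (hc : (c : Ω) ≠ a) :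
    ∃ u ∈ U, u ∈ Subgroup.normalizer (Y : Set G) ∧ u • b = c := by
  obtain ⟨u, hu, hub⟩ := hS.trans b c hb hc
  have hua : u • a = a := hS.le hu
  obtain ⟨v, hv, hv', hn⟩ := adjust hS hY hu fun y hy => by
    have h1 : y ∈ biKer a U (u • a) (u • b) := by
      rw [hua, hub]
      exact (mem_biKer hS).2 ⟨(fix_a_mem hS hY y hy).1, (c.2 y hy).1, (fix_a_mem hS hY y hy).2, (c.2 y hy).2⟩
    have := biKer_conj hS (g := u⁻¹) h1
    rwa [inv_smul_smul, inv_smul_smul, inv_inv] at this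
  exact ⟨u * v, mul_mem hu hv, hn, by rw [mul_smul, ((mem_biKer hS).1 hv').2.1, hub]⟩

theorem fix_split [Fact p.Prime] (hb : b ≠ a) (hY : IsMaxP a U b p Y) :
    Split (FixGrp a U Y) (FixY a U Y) ⟨a, fix_a_mem hS hY⟩ (imgU a U Y) := by
  set α : FixY a U Y := ⟨a, fix_a_mem hS hY⟩
  set β : FixY a U Y := ⟨b, fix_b_mem hS hY⟩
  have hαβ : β ≠ α := fun h => hb (congrArg Subtype.val h)
  have hcN : ∀ z ∈ cpt a U a, z ∈ Subgroup.normalizer (Y : Set G) := fun z hz =>
    centralizing_mem_normalizer hS fun y hy => (fix_a_mem hS hY y hy).2 z hz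
  have hmove : ∀ c : FixY a U Y, ∃ g : FixGrp a U Y, g • c = α := fun c => by
    by_cases h : (c : Ω) = a
    · exact ⟨1, (one_smul _ _).trans (Subtype.ext h)⟩
    obtain ⟨z, hz, -⟩ := exists_cpt hS (c : Ω)
    obtain ⟨w, hw, -⟩ := exists_cpt hS a
    obtain ⟨t, ht, htz, htp, -⟩ := exists_swap hS hz hw h
    exact ⟨QuotientGroup.mk ⟨t, centralizing_mem_normalizer hS fun y hy =>
      swap_commute hS hz hw h ht htz ((c.2 y hy).2 z hz) ((fix_a_mem hS hY y hy).2 w hw)⟩, Subtype.ext htp⟩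
  have htrα : ∀ c d : FixY a U Y, c ≠ α → d ≠ α → ∃ g ∈ imgU a U Y, g • c = d := by
    have key : ∀ c : FixY a U Y, c ≠ α → ∃ g ∈ imgU a U Y, g • β = c := fun c hc => by
      obtain ⟨u, hu, hun, hub⟩ := fix_trans hS hb hY (c := c) fun h => hc (Subtype.ext h)
      exact ⟨QuotientGroup.mk ⟨u, hun⟩, ⟨⟨u, hun⟩, hu, rfl⟩, Subtype.ext hub⟩
    intro c d hc hd
    obtain ⟨g, hg, e⟩ := key c hc
    obtain ⟨h, hh, e'⟩ := key d hd
    exact ⟨h * g⁻¹, mul_mem hh (inv_mem hg), by rw [mul_smul, ← e, inv_smul_smul, e']⟩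
  have hlea : imgU a U Y ≤ stabilizer (FixGrp a U Y) α := by
    rintro _ ⟨n, hn, rfl⟩
    exact Subtype.ext (hS.le (show (n : G) ∈ U from hn))
  refine
    { faithful := inferInstance
      two_trans := is_two_pretransitive_iff.2 fun {c d c' d'} h1 h2 => ?_
      odd_pts := ?_
      exists_ne := ⟨β, hαβ⟩
      le := hlea
      conj_mem := fun g hg x hx => ?_
      nilpotent := ?_
      trans := htrα
      two_mem := fun g hg k hk => ?_
      four := ?_ }
  · obtain ⟨g, hg⟩ := hmove c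
    obtain ⟨h, hh⟩ := hmove c'
    obtain ⟨u, hu, e⟩ := htrα (g • d) (h • d')
      (fun e => h1 (MulAction.injective g (hg.trans e.symm)))
      (fun e => h2 (MulAction.injective h (hh.trans e.symm)))
    refine ⟨h⁻¹ * u * g, ?_, ?_⟩
    · rw [mul_smul, mul_smul, hg, show u • α = α from hlea hu, inv_smul_eq_iff, hh]
    · rw [mul_smul, mul_smul, e, inv_smul_smul]
  · haveI := finite_pts hS
    obtain ⟨z, hz, -⟩ := exists_cpt hS a
    refine odd_of_one_fix (f := fun c : FixY a U Y => (QuotientGroup.mk ⟨z, hcN z hz⟩ : FixGrp a U Y) • c)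
      (fun c => Subtype.ext ?_) (x₀ := α) (Subtype.ext (cpt_fix hS hz))
      (fun c hc => Subtype.ext (cpt_only hS hz (congrArg Subtype.val hc)))
    rw [fixGrp_coe, fixGrp_coe, ← mul_smul, cpt_sq hS hz, one_smul]
  · obtain ⟨n, rfl⟩ := QuotientGroup.mk_surjective g
    obtain ⟨u, hu, rfl⟩ := hx
    exact ⟨n * u * n⁻¹, hS.conj_mem (n : G) (congrArg Subtype.val hg) u hu, rfl⟩
  · haveI := hS.nilpotent
    haveI : Group.IsNilpotent ↥(U.subgroupOf (Subgroup.normalizer (Y : Set G))) :=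
      Subgroup.isNilpotent_of_ker_le_center
        (((Subgroup.normalizer (Y : Set G)).subtype.comp
          (U.subgroupOf (Subgroup.normalizer (Y : Set G))).subtype).codRestrict U fun x => x.2)
        (fun x hx => by
          have : x = 1 := Subtype.ext (Subtype.ext (congrArg (fun w : U => (w : G)) hx))
          rw [this]; exact one_mem _)
    exact Group.nilpotent_of_surjective
      ((QuotientGroup.mk' (fixKer a U Y)).subgroupMap (U.subgroupOf (Subgroup.normalizer (Y : Set G))))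
      (MonoidHom.subgroupMap_surjective _ _)
  · obtain ⟨n, rfl⟩ := QuotientGroup.mk_surjective g
    have hna : (n : G) • a = a := congrArg Subtype.val hg
    set o := orderOf n with ho
    obtain ⟨j, hj⟩ : ∃ j, ((QuotientGroup.mk n : FixGrp a U Y) ^ ordCompl[2] o) ^ j = QuotientGroup.mk n :=
      exists_pow_eq_self_of_coprime (((Nat.coprime_ordCompl Nat.prime_two (orderOf_pos n).ne').symm.pow_right
        k).coprime_dvd_right (orderOf_dvd_of_pow_eq_one hk))
    set m := n ^ (ordCompl[2] o * j) with hm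
    have hm2 : m ^ 2 ^ o.factorization 2 = 1 := by
      rw [hm, ← pow_mul, show ordCompl[2] o * j * 2 ^ o.factorization 2 =
        ordProj[2] o * ordCompl[2] o * j by ring, Nat.ordProj_mul_ordCompl_eq_self, pow_mul, ho,
        pow_orderOf_eq_one, one_pow]
    refine ⟨m, hS.two_mem (m : G) ?_ (o.factorization 2) (by
      rw [← SubmonoidClass.coe_pow, hm2, OneMemClass.coe_one]), ?_⟩
    · rw [hm, SubmonoidClass.coe_pow]
      exact (stabilizer G a).pow_mem hna _
    · show (QuotientGroup.mk m : FixGrp a U Y) = QuotientGroup.mk n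
      rw [hm, QuotientGroup.mk_pow, pow_mul, hj]
  · obtain ⟨z, hz, w, hw, hne⟩ := hS.four
    have hz' := (cpt_self hS).2 hz
    have hw' := (cpt_self hS).2 hw
    have hzw := cpt_mul hS hz' hw' hne
    have mem : ∀ {z : G} (hz : z ∈ cinv U),
        (QuotientGroup.mk ⟨z, hcN z ((cpt_self hS).2 hz)⟩ : FixGrp a U Y) ∈ cinv (imgU a U Y) := by
      intro z hz
      refine ⟨⟨_, hz.1, rfl⟩, fun h => hb (cpt_only hS ((cpt_self hS).2 hz) ?_), ?_, ?_⟩
      · have e := congrArg (fun g : FixGrp a U Y => ((g • β : FixY a U Y) : Ω)) h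
        simp only [one_smul, fixGrp_coe] at e
        exact e
      · rw [← QuotientGroup.mk_mul]
        exact congrArg QuotientGroup.mk (Subtype.ext hz.2.2.1)
      · rintro _ ⟨u, hu, rfl⟩
        show QuotientGroup.mk' (fixKer a U Y) u * QuotientGroup.mk' (fixKer a U Y) _ =
          QuotientGroup.mk' (fixKer a U Y) _ * QuotientGroup.mk' (fixKer a U Y) u
        rw [← map_mul, ← map_mul]
        exact congrArg _ (Subtype.ext (hz.2.2.2 _ hu).eq)
    refine ⟨_, mem hz, _, mem hw, fun h => hb (cpt_only hS hzw ?_)⟩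
    have e := congrArg (fun g : FixGrp a U Y => ((g • β : FixY a U Y) : Ω)) h
    simp only [fixGrp_coe] at e
    rw [mul_smul, ← e, ← mul_smul, cpt_sq hS hz', one_smul]

/-- By induction, the elements of odd order of `U` normalising `Y` fix the configuration of `Y`. -/
theorem odd_fix [Fact p.Prime] (hIH : TwoIH.{u, v} (Nat.card G)) (hb : b ≠ a) (hY : IsMaxP a U b p Y)
    (hY1 : Y ≠ ⊥) {u : G} (hu : u ∈ U) (hun : u ∈ Subgroup.normalizer (Y : Set G))
    (hodd : Odd (orderOf u)) (c : FixY a U Y) : u • (c : Ω) = c := by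
  have hlt : Nat.card (FixGrp a U Y) < Nat.card G := by
    refine lt_of_lt_of_le ?_ (Subgroup.card_le_card_group (Subgroup.normalizer (Y : Set G)))
    obtain ⟨⟨y, hy⟩, hy1⟩ := Subgroup.ne_bot_iff_exists_ne_one.1 hY1
    have hyk : (⟨y, Subgroup.le_normalizer hy⟩ : Subgroup.normalizer (Y : Set G)) ∈ fixKer a U Y :=
      Equiv.ext fun c => Subtype.ext (c.2 y hy).1
    rw [Subgroup.card_eq_card_quotient_mul_card_subgroup (fixKer a U Y)]
    refine lt_mul_of_one_lt_right Nat.card_pos (Subgroup.one_lt_card_iff_ne_bot _ |>.2 fun h => hy1 ?_)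
    rw [h, Subgroup.mem_bot] at hyk
    exact Subtype.ext (congrArg (fun w : Subgroup.normalizer (Y : Set G) => (w : G)) hyk)
  obtain ⟨k, hk⟩ := hIH (FixGrp a U Y) (FixY a U Y) _ (imgU a U Y) hlt (fix_split hS hb hY)
    ⟨QuotientGroup.mk ⟨u, hun⟩, ⟨⟨u, hun⟩, hu, rfl⟩⟩
  have hk' : (QuotientGroup.mk ⟨u, hun⟩ : FixGrp a U Y) ^ 2 ^ k = 1 := congrArg Subtype.val hk
  have h1 : (QuotientGroup.mk ⟨u, hun⟩ : FixGrp a U Y) = 1 := by
    rw [← orderOf_eq_one_iff]
    refine Nat.eq_one_of_dvd_coprimes (a := 2 ^ k) (b := orderOf u) ?_ (orderOf_dvd_of_pow_eq_one hk') ?_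
    · exact ((Nat.coprime_two_left.2 hodd).pow_left k)
    · refine orderOf_dvd_of_pow_eq_one ?_
      rw [← QuotientGroup.mk_pow]
      exact congrArg QuotientGroup.mk (Subtype.ext (pow_orderOf_eq_one u))
  have e := congrArg (fun g : FixGrp a U Y => ((g • c : FixY a U Y) : Ω)) h1
  simp only [one_smul, fixGrp_coe] at e
  exact e

/-- Without kernels at pairs there is no kernel at one point of a pair. -/
theorem oneKer_trivial (h0 : ∀ p r : Ω, p ≠ r → biKer a U p r = ⊥) {b : Ω} (hb : b ≠ a) :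
    oneKer a U a b = ⊥ := by
  rw [Subgroup.eq_bot_iff_forall]
  intro e he
  have bot : ∀ {p r : Ω} {x : G}, p ≠ r → x ∈ biKer a U p r → x = 1 := fun hne hx => by
    rwa [h0 _ _ hne, Subgroup.mem_bot] at hx
  obtain ⟨he1, he2, he3⟩ := (mem_oneKer hS).1 he
  obtain ⟨z, hz, -⟩ := exists_cpt hS a
  obtain ⟨w, hw, -⟩ := exists_cpt hS b
  obtain ⟨t, ht, htz, hta, htb⟩ := exists_swap hS hz hw hb.symm
  have ht2 := cen_sq hS ht
  have hti : t⁻¹ = t := inv_eq_of_mul_eq_one_right ht2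
  set e' := t * e * t with he'def
  have he' : e' ∈ oneKer a U b a := by
    have := oneKer_conj hS (g := t) he
    rwa [hta, htb, hti] at this
  obtain ⟨he1', he2', he3'⟩ := (mem_oneKer hS).1 he'
  -- both kernels are normalised by the two-point stabiliser
  have hcomm : Commute e e' := by
    have h1 : e * e' * e⁻¹ * e'⁻¹ ∈ biKer a U a b := by
      refine (mem_biKer hS).2 ⟨?_, ?_, ?_, ?_⟩
      · rw [mul_smul, mul_smul, mul_smul, inv_smul_eq_iff.2 he2'.symm, inv_smul_eq_iff.2 he1.symm, he2', he1]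
      · rw [mul_smul, mul_smul, mul_smul, inv_smul_eq_iff.2 he1'.symm, inv_smul_eq_iff.2 he2.symm, he1', he2]
      · intro y hy
        have h := cpt_centralizer_conj hS (g := e') (fun x hx => (he3 x hx).inv_left)
        rw [he2'] at h
        have := (he3 y hy).mul_left (h y hy)
        rwa [show e * (e' * e⁻¹ * e'⁻¹) = e * e' * e⁻¹ * e'⁻¹ by group] at this
      · intro y hy
        have h := cpt_centralizer_conj hS (g := e) he3'
        rw [he2] at h
        exact (h y hy).mul_left (he3' y hy).inv_left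
    have := bot hb.symm h1
    rw [mul_inv_eq_one, mul_inv_eq_iff_eq_mul] at this
    exact this
  set g := e * e' with hg
  have hgt : Commute g t := by
    show e * e' * t = t * (e * e')
    rw [hcomm.eq, he'def]
    calc t * e * t * e * t = t * (e * (t * e * t)) := by group
      _ = _ := by rw [← he'def, hcomm.eq]
  obtain ⟨c, hc⟩ := ht
  have hca : c ≠ a := fun h => hb (by rw [← hta, ← h]; exact cpt_fix hS hc)
  have hgc : g • c = c := cpt_only hS hc (fix_comm hgt.symm (cpt_fix hS hc))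
  have hga : g • a = a := by rw [hg, mul_smul, he2', he1]
  -- `g` agrees on the involutions at `a` with an element centralising those at `c`
  obtain ⟨u, hu, hub⟩ := hS.trans b c hb hca
  have hua : u • a = a := hS.le hu
  set f := u * e' * u⁻¹ with hfdef
  have hf : f ∈ oneKer a U c a := by
    have := oneKer_conj hS (g := u) he'
    rwa [hub, hua] at this
  obtain ⟨hf1, hf2, hf3⟩ := (mem_oneKer hS).1 hf
  have hk : g * f⁻¹ ∈ oneKer a U a c := by
    refine (mem_oneKer hS).2 ⟨by rw [mul_smul, inv_smul_eq_iff.2 hf2.symm, hga],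
      by rw [mul_smul, inv_smul_eq_iff.2 hf1.symm, hgc], fun y hy => ?_⟩
    have hy1 : e'⁻¹ * y * e' ∈ cpt a U a := by
      have := cpt_conj hS hy e'⁻¹
      rwa [inv_inv, inv_smul_eq_iff.2 he2'.symm] at this
    have hy2 : f⁻¹ * y * f = e'⁻¹ * y * e' := by
      have hcu : ∀ x ∈ cpt a U a, u * x * u⁻¹ = x := fun x hx => by
        rw [(cpt_U hS hx hu).eq, mul_inv_cancel_right]
      have hyu : u⁻¹ * y * u = y := by rw [mul_assoc, ← (cpt_U hS hy hu).eq, inv_mul_cancel_left]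
      calc f⁻¹ * y * f = u * (e'⁻¹ * (u⁻¹ * y * u) * e') * u⁻¹ := by rw [hfdef]; group
        _ = _ := by rw [hyu, hcu _ hy1]
    show g * f⁻¹ * y = y * (g * f⁻¹)
    calc g * f⁻¹ * y = g * (f⁻¹ * y * f) * f⁻¹ := by group
      _ = e * e' * (e'⁻¹ * y * e') * f⁻¹ := by rw [hy2]
      _ = (e * y) * e' * f⁻¹ := by group
      _ = (y * e) * e' * f⁻¹ := by rw [(he3 y hy).eq]
      _ = y * (g * f⁻¹) := by rw [hg]; group
  have h1 := bot hca.symm (oneKer_semireg hS hca.symm hk hc (hgt.mul_left (hf3 t hc).inv_left))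
  rw [mul_inv_eq_one] at h1
  -- hence `g` centralises the involutions at `c`, and at the translate by `e`
  have hgC : ∀ y ∈ cpt a U c, Commute g y := h1 ▸ hf3
  have hge : Commute e g := by rw [hg]; exact (Commute.refl e).mul_right hcomm
  by_cases hec : e • c = c
  · have h2 : Commute e t := by
      by_contra hne
      have hne' : e * t * e⁻¹ ≠ t := fun h => hne (mul_inv_eq_iff_eq_mul.1 h)
      have h3 := cpt_conj hS hc e
      rw [hec] at h3
      have h4 := cpt_only hS (cpt_mul hS h3 hc hne') (r := a) (by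
        rw [mul_smul, hta, mul_smul, mul_smul, inv_smul_eq_iff.2 he2.symm, htb, he1])
      exact hca h4.symm
    have h3 : e' = e := by rw [he'def, ← h2.eq, mul_assoc, ht2, mul_one]
    exact bot hb.symm ((mem_biKer hS).2 ⟨he1, he2, he3, fun y hy => h3 ▸ he3' y hy⟩)
  · have hg1 : g = 1 := bot (Ne.symm hec) ((mem_biKer hS).2 ⟨hgc,
      by rw [← mul_smul, ← hge.eq, mul_smul, hgc], hgC, fun y hy => by
        have := cpt_centralizer_conj hS (g := e) hgC y hy
        rwa [hge.eq, mul_inv_cancel_right] at this⟩)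
    have h3 : e = e'⁻¹ := mul_eq_one_iff_eq_inv.1 (hg ▸ hg1)
    exact bot hb.symm ((mem_biKer hS).2 ⟨he1, he2, he3, fun y hy => h3 ▸ (he3' y hy).inv_left⟩)

end Facts

end Cfsg.Lib.SplitRankOne
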