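import Cfsg.Agent.SplitRankOne.Basic

/-!
The involutions fixing several points: their classes in cosets of the central involutions and their fixed points.
-/

set_option autoImplicit false
set_option linter.unusedSectionVars false
set_option linter.style.haveILetI false

namespace Cfsg.Lib.SplitRankOne

open MulAction Cfsg.Lib.InvolCalc

universe u v

variable {G : Type u} {Ω : Type v} [Group G] [MulAction G Ω]

theorem commute_sq {x y : G} (hx : x * x = 1) (hy : y * y = 1) (h : Commute x y) : x * y * (x * y) = 1 := by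
  rw [show x * y * (x * y) = x * (y * x) * y by group, ← h.eq, show x * (x * y) * y = x * x * (y * y) by group,
    hx, hy, one_mul]

/-- The central subgroup of exponent two. -/
def zgroup (U : Subgroup G) : Subgroup G where
  carrier := {z | z ∈ U ∧ z * z = 1 ∧ ∀ u ∈ U, Commute u z}
  one_mem' := ⟨U.one_mem, one_mul 1, fun u _ => Commute.one_right u⟩
  mul_mem' := fun {x y} hx hy =>
    ⟨U.mul_mem hx.1 hy.1, commute_sq hx.2.1 hy.2.1 (hy.2.2 x hx.1),
      fun u hu => (hx.2.2 u hu).mul_right (hy.2.2 u hu)⟩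
  inv_mem' := fun {x} hx => by
    rw [inv_eq_of_mul_eq_one_right hx.2.1]
    exact hx

theorem mem_zgroup {U : Subgroup G} {z : G} : z ∈ zgroup U ↔ z ∈ U ∧ z * z = 1 ∧ ∀ u ∈ U, Commute u z :=
  Iff.rfl

section Facts

variable [Finite G] {a : Ω} {U : Subgroup G} (hS : Split G Ω a U)
include hS

theorem zgroup_iff {z : G} : z ∈ zgroup U ↔ z = 1 ∨ z ∈ cpt a U a := by
  rw [cpt_self hS, mem_zgroup]
  refine ⟨fun h => or_iff_not_imp_left.2 fun h1 => ⟨h.1, h1, h.2⟩, ?_⟩
  rintro (rfl | h)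
  · exact ⟨U.one_mem, one_mul 1, fun u _ => Commute.one_right u⟩
  · exact ⟨h.1, h.2.2⟩

theorem card_cpt (p : Ω) : Nat.card (cpt a U p) = Nat.card (cpt a U a) := by
  obtain ⟨g, rfl⟩ := trans₁ hS a p
  refine (Nat.card_eq_of_bijective (fun z : cpt a U a => (⟨g * z * g⁻¹, cpt_conj hS z.2 g⟩ : cpt a U (g • a)))
    ⟨fun y z h => Subtype.ext (mul_left_cancel (mul_right_cancel (congrArg Subtype.val h))), fun z => ?_⟩).symm
  have := cpt_conj hS z.2 g⁻¹
  rw [inv_smul_smul, inv_inv] at this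
  exact ⟨⟨_, this⟩, Subtype.ext (by group)⟩

theorem card_zgroup : Nat.card (zgroup U) = Nat.card (cpt a U a) + 1 := by
  classical
  have e : ((zgroup U : Subgroup G) : Set G) = insert 1 (cpt a U a) := Set.ext fun z => zgroup_iff hS
  show Nat.card ((zgroup U : Subgroup G) : Set G) = _
  rw [e, Nat.card_coe_set_eq, Set.ncard_insert_of_notMem (fun h => cpt_ne hS h rfl) (Set.toFinite _),
    ← Nat.card_coe_set_eq]

/-- An involution fixing `p` and a central involution at a moved point give a partner. -/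
theorem exists_partner {x z : G} {p c : Ω} (hx : x * x = 1) (hx1 : x ≠ 1) (hxp : x • p = p)
    (hxK : x ∉ cpt a U p) (hc : x • c ≠ c) (hz : z ∈ cpt a U c) :
    ∃ d zd, x • d = d ∧ zd ∈ cpt a U d ∧ (x * zd) • c = c ∧ IsConj x (z * (x * zd)) := by
  have hev : Even (orderOf (x * z)) := by
    by_contra hodd
    obtain ⟨d, -, hd⟩ := conj_of_odd (order_two_of_mul_self hx hx1) (cpt_order hS hz)
      (Nat.not_even_iff_odd.1 hodd)
    exact hxK (cpt_of_isConj hS hz (isConj_iff.2 ⟨d, hd⟩).symm hxp)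
  obtain ⟨e, he1, -, hex, hez, hcase⟩ := central_cases hx hx1 (cpt_sq hS hz) (cpt_ne hS hz) hev
  have hec : e • c = c := cpt_only hS hz (fix_comm hez.symm (cpt_fix hS hz))
  rcases hcase with ⟨-, h⟩ | ⟨h1, h2⟩
  · exfalso
    have h' := cpt_of_isConj hS hz h (r := c) (by rw [mul_smul, hec, cpt_fix hS hz])
    have he := cpt_mul hS hz h' (fun e' => he1 (mul_left_cancel (e'.symm.trans (mul_one z).symm)))
    rw [← mul_assoc, cpt_sq hS hz, one_mul] at he
    exact hc (cpt_only hS he (fix_comm hex hec))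
  · obtain ⟨g, hg⟩ := isConj_iff.1 h2
    have hzd : x * e ∈ cpt a U (g • c) := hg ▸ cpt_conj hS hz g
    refine ⟨g • c, x * e, cpt_only hS hzd ?_, hzd, ?_, ?_⟩
    · exact fix_comm ((Commute.refl x).mul_left hex) (cpt_fix hS hzd)
    · rw [← mul_assoc, hx, one_mul, hec]
    · rwa [← mul_assoc x x, hx, one_mul]

theorem partner_unique {x zd zd' : G} {c d d' : Ω} (hx : x * x = 1) (hc : x • c ≠ c) (hd : x • d = d)
    (hd' : x • d' = d') (hz : zd ∈ cpt a U d) (hz' : zd' ∈ cpt a U d') (h : (x * zd) • c = c)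
    (h' : (x * zd') • c = c) : zd = zd' := by
  have hxz := (cpt_comm hS hz hd (sq_pow_two hx)).symm
  have hxz' := (cpt_comm hS hz' hd' (sq_pow_two hx)).symm
  obtain ⟨i, hi⟩ := two_mul hS h h' (sq_pow_two (commute_sq hx (cpt_sq hS hz) hxz))
    (sq_pow_two (commute_sq hx (cpt_sq hS hz') hxz'))
  have e : x * zd * (x * zd') = zd * zd' := by
    rw [hxz.eq, show zd * x * (x * zd') = zd * (x * x) * zd' by group, hx, mul_one]
  rw [e] at hi
  by_contra hne
  by_cases hdd : d = d'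
  · subst hdd
    have h1 := cpt_mul hS hz hz' hne
    have h2 : (zd * zd') • c = c := by rw [← e, mul_smul, h', h]
    exact hc (cpt_only hS h1 h2 ▸ hd)
  · have hodd := odd_mul hS hz hz' hdd
    have h1 : orderOf (zd * zd') = 1 :=
      Nat.eq_one_of_dvd_coprimes ((Nat.coprime_two_left.2 hodd).pow_left i) (orderOf_dvd_of_pow_eq_one hi)
        dvd_rfl
    rw [orderOf_eq_one_iff, mul_eq_one_iff_eq_inv, cpt_inv hS hz'] at h1
    exact hne h1

theorem only_of_isConj {x y : G} {p r s : Ω} (hx : ∀ c, x • c = c → c = p) (h : IsConj x y) (hr : y • r = r)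
    (hs : y • s = s) : s = r := by
  obtain ⟨g, rfl⟩ := isConj_iff.1 h
  have key : ∀ r, (g * x * g⁻¹) • r = r → g⁻¹ • r = p := fun r hr => hx _ (by
    rwa [mul_smul, mul_smul, smul_eq_iff_eq_inv_smul] at hr)
  exact MulAction.injective g⁻¹ ((key s hs).trans (key r hr).symm)

/-- An involution outside the central ones fixes a second point. -/
theorem fix_two {x : G} {p : Ω} (hx : x * x = 1) (hx1 : x ≠ 1) (hxp : x • p = p) (hxK : x ∉ cpt a U p) :
    ∃ c, c ≠ p ∧ x • c = c := by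
  by_contra hno
  push Not at hno
  have honly : ∀ r, x • r = r → r = p := fun r hr => by_contra fun h => hno r h hr
  obtain ⟨c, hcp⟩ := exists_other hS p
  have hxc := hno c hcp
  obtain ⟨z₀, hz₀, -⟩ := exists_cpt hS c
  obtain ⟨d, zd, hd, hzd, hec, -⟩ := exists_partner hS hx hx1 hxp hxK hxc hz₀
  obtain rfl := honly d hd
  have hxz := (cpt_comm hS hzd hxp (sq_pow_two hx)).symm
  set e := x * zd with he
  have he2 : e * e = 1 := commute_sq hx (cpt_sq hS hzd) hxz
  have hep : e • d = d := by rw [he, mul_smul, cpt_fix hS hzd, hxp]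
  have he1 : e ≠ 1 := fun h => hxK (by
    rw [(mul_eq_one_iff_eq_inv.1 h).trans (cpt_inv hS hzd)]
    exact hzd)
  have hzc : ∀ z ∈ cpt a U c, ∀ s, (z * e) • s = s → s = c := by
    intro z hz s hs
    obtain ⟨d', zd', hd', hzd', hec', hconj⟩ := exists_partner hS hx hx1 hxp hxK hxc hz
    rw [← partner_unique hS hx hxc hd hd' hzd hzd' hec hec'] at hconj
    exact only_of_isConj hS honly hconj (by rw [mul_smul, hec, cpt_fix hS hz]) hs
  have hall : ∀ r, e • r = r → ∀ z ∈ cpt a U r, ∀ s, (z * e) • s = s → s = r := by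
    intro r hr z hz s hs
    obtain ⟨g, hge, hgc⟩ := exists_swap_comm hS hz₀ hz
      ((cpt_comm hS hz₀ hec (sq_pow_two he2)).symm) ((cpt_comm hS hz hr (sq_pow_two he2)).symm)
    have hz' := cpt_conj hS hz g⁻¹
    rw [inv_inv, inv_smul_eq_iff.2 hgc.symm] at hz'
    have h1 := hzc _ hz' (g⁻¹ • s) (by
      calc (g⁻¹ * z * g * e) • g⁻¹ • s = (g⁻¹ * z * (g * e) * g⁻¹) • s := by simp only [mul_smul]
        _ = (g⁻¹ * z * (e * g) * g⁻¹) • s := by rw [hge.eq]
        _ = g⁻¹ • (z * e) • s := by simp only [mul_smul, smul_inv_smul]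
        _ = g⁻¹ • s := by rw [hs])
    rw [← hgc, ← h1, smul_inv_smul]
  have heK : e ∉ cpt a U d := fun h => hcp (cpt_only hS h hec)
  obtain ⟨c', hc'⟩ : ∃ c', e • c' ≠ c' := by
    by_contra h
    push Not at h
    exact he1 (hS.faithful.eq_of_smul_eq_smul fun r : Ω => by rw [h r, one_smul])
  obtain ⟨z', hz', -⟩ := exists_cpt hS c'
  obtain ⟨r, zr, hr, hzr, hfix, -⟩ := exists_partner hS he2 he1 hep heK hc' hz'
  rw [(cpt_comm hS hzr hr (sq_pow_two he2)).symm.eq] at hfix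
  exact hc' (hall r hr zr hzr c' hfix ▸ hr)

/-- Multiplying by a central involution at a fixed point stays in the class. -/
theorem isConj_mul_cpt {x z : G} {p : Ω} (hx : x * x = 1) (hx1 : x ≠ 1) (hxp : x • p = p)
    (hxK : x ∉ cpt a U p) (hz : z ∈ cpt a U p) : IsConj x (x * z) := by
  obtain ⟨z₁, hz₁, hne⟩ := exists_cpt_ne hS p z
  have hxz₁ := (cpt_comm hS hz₁ hxp (sq_pow_two hx)).symm
  set x' := x * z₁ with hx'
  have hx'2 : x' * x' = 1 := commute_sq hx (cpt_sq hS hz₁) hxz₁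
  have hx'p : x' • p = p := by rw [hx', mul_smul, cpt_fix hS hz₁, hxp]
  have hback : x = x' * z₁ := by rw [hx', mul_assoc, cpt_sq hS hz₁, mul_one]
  have hx'1 : x' ≠ 1 := fun h => hxK (by
    rw [(mul_eq_one_iff_eq_inv.1 h).trans (cpt_inv hS hz₁)]
    exact hz₁)
  have hx'K : x' ∉ cpt a U p := fun h => by
    rcases eq_or_ne x' z₁ with e | e
    · exact hx1 (by rw [hback, e, cpt_sq hS hz₁])
    · exact hxK (hback ▸ cpt_mul hS h hz₁ e)
  obtain ⟨c, hcp, hc⟩ := fix_two hS hx'2 hx'1 hx'p hx'K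
  have hxc : x • c ≠ c := fun h => hcp (cpt_only hS hz₁ (by
    have h2 : (x * x') • c = c := by rw [mul_smul, hc, h]
    rwa [hx', ← mul_assoc, hx, one_mul] at h2))
  obtain ⟨z₂, hz₂, -⟩ := exists_cpt hS c
  obtain ⟨g, hgx, hgc⟩ := exists_swap_comm hS hz₂ hz₁ ((cpt_comm hS hz₂ hc (sq_pow_two hx'2)).symm)
    ((cpt_comm hS hz₁ hx'p (sq_pow_two hx'2)).symm)
  have hz' : z₁ * z ∈ cpt a U p := cpt_mul hS hz₁ hz hne
  have hw := cpt_conj hS hz' g⁻¹
  rw [inv_inv, inv_smul_eq_iff.2 hgc.symm] at hw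
  obtain ⟨d, zd, hd, hzd, hfix, hconj⟩ := exists_partner hS hx hx1 hxp hxK hxc hw
  rw [← partner_unique hS hx hxc hxp hd hz₁ hzd hc hfix, ← hx'] at hconj
  refine hconj.trans (isConj_iff.2 ⟨g, ?_⟩)
  calc g * (g⁻¹ * (z₁ * z) * g * x') * g⁻¹ = z₁ * z * (g * x' * g⁻¹) := by group
    _ = z₁ * z * x' := by rw [← hgx.eq, mul_inv_cancel_right]
    _ = x' * (z₁ * z) := (cpt_comm hS hz' hx'p (sq_pow_two hx'2)).eq
    _ = x * z := by rw [hx', show x * z₁ * (z₁ * z) = x * (z₁ * z₁) * z by group, cpt_sq hS hz₁, mul_one]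

theorem card_fix_conj {x y : G} (h : IsConj x y) :
    Nat.card {r : Ω // y • r = r} = Nat.card {r : Ω // x • r = r} := by
  obtain ⟨g, rfl⟩ := isConj_iff.1 h
  refine Nat.card_congr ⟨fun r => ⟨g⁻¹ • (r : Ω), ?_⟩, fun r => ⟨g • (r : Ω), fix_conj r.2⟩,
    fun r => Subtype.ext (smul_inv_smul _ _), fun r => Subtype.ext (inv_smul_smul _ _)⟩
  have := r.2
  rwa [mul_smul, mul_smul, smul_eq_iff_eq_inv_smul] at this

/-- The fixed point count of such an involution. -/
theorem fix_count {x : G} {p : Ω} (hx : x * x = 1) (hx1 : x ≠ 1) (hxp : x • p = p) (hxK : x ∉ cpt a U p) :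
    Nat.card Ω = Nat.card {c : Ω // x • c = c} +
      Nat.card {c : Ω // x • c = c} * (Nat.card (cpt a U a) * (Nat.card {c : Ω // x • c = c} - 1)) := by
  classical
  haveI := finite_pts hS
  set k := Nat.card {c : Ω // x • c = c} with hk
  -- the property holds at every fixed point
  obtain ⟨c₀, hc₀, hxc₀⟩ := fix_two hS hx hx1 hxp hxK
  have hK : ∀ d, x • d = d → x ∉ cpt a U d := fun d _ h =>
    hc₀ ((cpt_only hS h hxc₀).trans (cpt_only hS h hxp).symm)
  let T := Σ d : {d : Ω // x • d = d}, Σ z : cpt a U (d : Ω), {c : Ω // c ≠ (d : Ω) ∧ (x * z) • c = c}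
  have hmove : ∀ τ : T, x • (τ.2.2 : Ω) ≠ τ.2.2 := fun τ h => τ.2.2.2.1 (cpt_only hS τ.2.1.2 (by
    have h' := τ.2.2.2.2
    rw [mul_smul, smul_eq_iff_eq_inv_smul, inv_eq_of_mul_eq_one_right hx, h] at h'
    exact h'))
  have hbij : Function.Bijective fun τ : T => (⟨(τ.2.2 : Ω), hmove τ⟩ : {c : Ω // ¬ x • c = c}) := by
    constructor
    · intro τ σ h
      have hc : (τ.2.2 : Ω) = σ.2.2 := congrArg Subtype.val h
      have hmv := hmove τ
      obtain ⟨⟨d, hd⟩, ⟨z, hz⟩, ⟨c, hc1, hc2⟩⟩ := τ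
      obtain ⟨⟨d', hd'⟩, ⟨z', hz'⟩, ⟨c', hc1', hc2'⟩⟩ := σ
      obtain rfl : c = c' := hc
      obtain rfl := partner_unique hS hx hmv hd hd' hz hz' hc2 hc2'
      obtain rfl := cpt_point hS hz hz'
      rfl
    · rintro ⟨c, hc⟩
      obtain ⟨z, hz, -⟩ := exists_cpt hS c
      obtain ⟨d, zd, hd, hzd, hfix, -⟩ := exists_partner hS hx hx1 hxp hxK hc hz
      exact ⟨⟨⟨d, hd⟩, ⟨zd, hzd⟩, ⟨c, fun e => hc (by rw [e]; exact hd), hfix⟩⟩, rfl⟩
  have hin : ∀ (d : {d : Ω // x • d = d}) (z : cpt a U (d : Ω)),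
      Nat.card {c : Ω // c ≠ (d : Ω) ∧ (x * z) • c = c} = k - 1 := by
    intro d z
    have hd : (x * z) • (d : Ω) = d := by rw [mul_smul, cpt_fix hS z.2, d.2]
    rw [hk, ← card_fix_conj hS (isConj_mul_cpt hS hx hx1 d.2 (hK _ d.2) z.2),
      ← Nat.card_congr (Equiv.optionSubtypeNe (⟨(d : Ω), hd⟩ : {c : Ω // (x * z) • c = c})), Finite.card_option,
      Nat.add_sub_cancel]
    exact Nat.card_congr ⟨fun c => ⟨⟨c, c.2.2⟩, fun e => c.2.1 (congrArg Subtype.val e)⟩,
      fun c => ⟨c.1, fun e => c.2 (Subtype.ext e), c.1.2⟩, fun _ => rfl, fun _ => rfl⟩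
  let : Fintype {d : Ω // x • d = d} := Fintype.ofFinite _
  have hT : Nat.card T = k * (Nat.card (cpt a U a) * (k - 1)) := by
    have hstep : ∀ d : {d : Ω // x • d = d},
        Nat.card (Σ z : cpt a U (d : Ω), {c : Ω // c ≠ (d : Ω) ∧ (x * z) • c = c}) =
          Nat.card (cpt a U a) * (k - 1) := by
      intro d
      let : Fintype (cpt a U (d : Ω)) := Fintype.ofFinite _
      rw [Nat.card_sigma, Finset.sum_congr rfl (g := fun _ => k - 1) (fun z _ => hin d z), Finset.sum_const,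
        Finset.card_univ, smul_eq_mul, ← Nat.card_eq_fintype_card, card_cpt hS]
    rw [Nat.card_sigma, Finset.sum_congr rfl (fun d _ => hstep d), Finset.sum_const, Finset.card_univ,
      smul_eq_mul, ← Nat.card_eq_fintype_card]
  rw [← hT, Nat.card_eq_of_bijective _ hbij, hk, ← Nat.card_sum,
    Nat.card_congr (Equiv.sumCompl fun c : Ω => x • c = c)]

theorem card_others : Nat.card Ω = Nat.card {c : Ω // c ≠ a} + 1 := by
  classical
  haveI := finite_pts hS
  rw [← Finite.card_option]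
  exact Nat.card_congr (Equiv.optionSubtypeNe a).symm

theorem others_two_pow (hU : IsPGroup 2 U) : ∃ s : ℕ, Nat.card {c : Ω // c ≠ a} = 2 ^ s := by
  haveI := Fact.mk Nat.prime_two
  haveI := finite_pts hS
  obtain ⟨b, hb⟩ := hS.exists_ne
  obtain ⟨s, hs⟩ := hU.card_orbit b
  refine ⟨s, hs ▸ Nat.card_congr (Equiv.subtypeEquivRight fun c => ⟨fun hc => ?_, ?_⟩)⟩
  · obtain ⟨u, hu, e⟩ := hS.trans b c hb hc
    exact ⟨⟨u, hu⟩, e⟩
  · rintro ⟨u, rfl⟩ h
    exact hb (MulAction.injective (u : G) ((show (u : G) • b = a from h).trans (hS.le u.2).symm))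

/-- With a 2-group `U`, such an involution fixes `q + 1` points and there are `q ^ 3 + 1` in all. -/
theorem fix_numbers (hU : IsPGroup 2 U) {x : G} (hx : x * x = 1) (hx1 : x ≠ 1) (hxa : x • a = a)
    (hxK : x ∉ cpt a U a) :
    Nat.card {c : Ω // x • c = c} = Nat.card (zgroup U) + 1 ∧
      Nat.card {c : Ω // c ≠ a} = Nat.card (zgroup U) ^ 3 := by
  classical
  haveI := Fact.mk Nat.prime_two
  haveI := finite_pts hS
  have h := fix_count hS hx hx1 hxa hxK
  rw [card_others hS] at h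
  obtain ⟨s, hs⟩ := others_two_pow hS hU
  obtain ⟨o, ho⟩ := IsPGroup.iff_card.1
    (hU.to_le (show zgroup U ≤ U from fun z hz => (mem_zgroup.1 hz).1))
  have hQ := card_zgroup hS
  obtain ⟨c, hca, hxc⟩ := fix_two hS hx hx1 hxa hxK
  have hk1 : Nat.card (zgroup U) + 1 ≤ Nat.card {c : Ω // x • c = c} := by
    have hz : ∀ z ∈ zgroup U, x • z • c = z • c := fun z hz => by
      rcases (zgroup_iff hS).1 hz with rfl | hz'
      · rw [one_smul, hxc]
      · exact fix_comm (cpt_comm hS hz' hxa (sq_pow_two hx)).symm hxc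
    rw [← Finite.card_option]
    refine Nat.card_le_card_of_injective
      (fun z : Option (zgroup U) => z.elim (⟨a, hxa⟩ : {c : Ω // x • c = c}) fun z => ⟨(z : G) • c, hz z z.2⟩)
      fun y z e => ?_
    have hne : ∀ z : zgroup U, (z : G) • c ≠ a := fun z e =>
      hca (MulAction.injective (z : G) (e.trans (hS.le (mem_zgroup.1 z.2).1).symm))
    rcases y with _ | y <;> rcases z with _ | z
    · rfl
    · exact absurd (congrArg Subtype.val e).symm (hne z)
    · exact absurd (congrArg Subtype.val e) (hne y)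
    · have e' : (y : G) • c = (z : G) • c := congrArg Subtype.val e
      congr 1
      refine Subtype.ext (inv_mul_eq_one.1 ?_).symm
      by_contra hne'
      refine hca (cpt_only hS (((zgroup_iff hS).1 (mul_mem (inv_mem z.2) y.2)).resolve_left hne') ?_)
      rw [mul_smul, e', inv_smul_smul]
  have hQ1 : 0 < Nat.card (cpt a U a) := by
    obtain ⟨z, hz, -⟩ := exists_cpt hS a
    haveI : Nonempty (cpt a U a) := ⟨⟨z, hz⟩⟩
    exact Nat.card_pos
  generalize Nat.card {c : Ω // x • c = c} = k at h hk1 ⊢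
  generalize Nat.card {c : Ω // c ≠ a} = n at h hs ⊢
  generalize Nat.card (zgroup U) = q at hQ ho hk1 ⊢
  generalize Nat.card (cpt a U a) = Q at h hQ hQ1
  obtain ⟨m, rfl⟩ : ∃ m, k = m + 1 := ⟨k - 1, by omega⟩
  rw [Nat.add_sub_cancel] at h
  subst hQ
  have hn : n = m * (1 + (m + 1) * Q) := by nlinarith
  obtain ⟨i, -, hi⟩ := (Nat.dvd_prime_pow Nat.prime_two).1 (hs ▸ hn ▸ dvd_mul_right m _ : m ∣ 2 ^ s)
  obtain ⟨j, -, hj⟩ := (Nat.dvd_prime_pow Nat.prime_two).1
    (hs ▸ hn ▸ dvd_mul_left (1 + (m + 1) * Q) m : 1 + (m + 1) * Q ∣ 2 ^ s)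
  have hoi : o ≤ i := (Nat.pow_le_pow_iff_right (by norm_num)).1 (by omega : 2 ^ o ≤ 2 ^ i)
  obtain ⟨r, rfl⟩ := Nat.exists_eq_add_of_le hoi
  have hfac : 1 + (m + 1) * Q = 2 ^ o * (1 + 2 ^ r * Q) := by
    rw [hi, pow_add, ← ho]
    ring
  obtain ⟨l, -, hl⟩ := (Nat.dvd_prime_pow Nat.prime_two).1 (hj ▸ hfac ▸ dvd_mul_left (1 + 2 ^ r * Q) (2 ^ o) :
    1 + 2 ^ r * Q ∣ 2 ^ j)
  rcases Nat.eq_zero_or_pos r with rfl | hr
  · rw [add_zero] at hi
    refine ⟨by omega, ?_⟩
    rw [hn, hfac, hi, ho, pow_zero, one_mul, add_comm 1 Q, ho]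
    ring
  · exfalso
    have hodd : Odd (1 + 2 ^ r * Q) :=
      odd_one.add_even ((Nat.even_pow.2 ⟨even_two, hr.ne'⟩).mul_right Q)
    rw [hl] at hodd
    rcases Nat.eq_zero_or_pos l with rfl | hl0
    · rw [pow_zero] at hl
      have : 0 < 2 ^ r * Q := Nat.mul_pos (Nat.two_pow_pos r) hQ1
      omega
    · exact Nat.not_even_iff_odd.2 hodd (Nat.even_pow.2 ⟨even_two, hl0.ne'⟩)

end Facts

end Cfsg.Lib.SplitRankOne
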