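import Cfsg.Agent.SplitRankOne.TwoPart
import Cfsg.Agent.SplitRankOne.Average

/-!
The label of an element of the normaliser, and the stabiliser of a second point has order two.
-/

set_option autoImplicit false
set_option linter.unusedSectionVars false
set_option linter.style.haveILetI false

namespace Cfsg.Lib.SplitRankOne

open MulAction

universe u v

variable {G : Type u} {Ω : Type v} [Group G] [MulAction G Ω]

/-- An invariant projection of the normaliser onto the stabiliser. -/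
structure IsLabel (a b : Ω) (U : Subgroup G) (lab : G → G) : Prop where
  mem : ∀ y ∈ yGroup U b, lab y ∈ ptGroup U b
  mul : ∀ y ∈ yGroup U b, ∀ y' ∈ yGroup U b, lab (y * y') = lab y * lab y'
  pt : ∀ p ∈ ptGroup U b, lab p = p
  central : ∀ z ∈ zgroup U, lab z = 1
  inv : ∀ d : G, d • a = a → d • b = b → (∀ p ∈ ptGroup U b, Commute d p) →
    ∀ y ∈ yGroup U b, lab (d * y * d⁻¹) = lab y

theorem sq_of_mul_central {g n : G} (hn : n * n = 1) (hc : Commute g n) (h : g * n * (g * n) = 1) :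
    g * g = 1 := by
  rw [show g * n * (g * n) = g * (n * g) * n by group, ← hc.eq,
    show g * (g * n) * n = g * g * (n * n) by group, hn, mul_one] at h
  exact h

section Facts

variable [Finite G] {a b : Ω} {U : Subgroup G} (hS : Split G Ω a U) (hU : IsPGroup 2 U) (hb : b ≠ a)
include hS hU hb

theorem odd_pair_index {D : Subgroup G} (hD : D ≤ pairStab G a b)
    (hn : ∀ d ∈ D, ∀ k ∈ ptGroup U b, d * k * d⁻¹ ∈ ptGroup U b) :
    Odd ((ptGroup U b).subgroupOf D).index := by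
  haveI := Fact.mk Nat.prime_two
  haveI : ((ptGroup U b).subgroupOf D).Normal := ⟨fun k hk g => hn g g.2 k hk⟩
  by_contra hev
  rw [Nat.not_odd_iff_even, even_iff_two_dvd, Subgroup.index_eq_card] at hev
  obtain ⟨g, hg⟩ := exists_prime_orderOf_dvd_card' 2 hev
  obtain ⟨c, rfl⟩ := QuotientGroup.mk_surjective g
  obtain ⟨A, B, e, hA, hB⟩ := two_split c
  have hAm : ((c ^ A : D) : G) ∈ ptGroup U b := by
    obtain ⟨h1, h2⟩ := (mem_pairStab hS).1 (hD (c ^ A).2)
    refine ⟨hS.two_mem _ h1 ((orderOf c).factorization 2) ?_, h2⟩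
    rw [← SubmonoidClass.coe_pow, hA, OneMemClass.coe_one]
  have h1 : (QuotientGroup.mk c : D ⧸ (ptGroup U b).subgroupOf D) = QuotientGroup.mk (c ^ B) := by
    conv_lhs => rw [← e]
    rw [QuotientGroup.mk_mul, (QuotientGroup.eq_one_iff (c ^ A)).2 hAm, one_mul]
  rw [h1] at hg
  have h2 := orderOf_map_dvd (QuotientGroup.mk' ((ptGroup U b).subgroupOf D)) (c ^ B)
  rw [QuotientGroup.mk'_apply, hg] at h2
  exact Nat.not_even_iff_odd.2 hB (even_iff_two_dvd.2 h2)
where
  two_split {M : Type u} [Group M] [Finite M] (g : M) : ∃ A B : ℤ, g ^ A * g ^ B = g ∧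
      (g ^ A) ^ 2 ^ (orderOf g).factorization 2 = 1 ∧ Odd (orderOf (g ^ B)) := by
    set m := ordCompl[2] (orderOf g) with hm
    set P := 2 ^ (orderOf g).factorization 2 with hP
    have ho : P * m = orderOf g := Nat.ordProj_mul_ordCompl_eq_self _ 2
    have hc : Nat.gcd m P = 1 :=
      ((Nat.coprime_ordCompl Nat.prime_two (orderOf_pos g).ne').pow_left _).symm
    have hb := Nat.gcd_eq_gcd_ab m P
    rw [hc, Nat.cast_one] at hb
    refine ⟨m * Nat.gcdA m P, P * Nat.gcdB m P, by rw [← zpow_add, ← hb, zpow_one], ?_, ?_⟩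
    · rw [← zpow_natCast, ← zpow_mul, show ((m : ℤ) * Nat.gcdA m P) * (P : ℤ) =
        ((P * m : ℕ) : ℤ) * Nat.gcdA m P by push_cast; ring, zpow_mul, ho, zpow_natCast, pow_orderOf_eq_one,
        one_zpow]
    · refine (Nat.coprime_two_left.1 (Nat.coprime_ordCompl Nat.prime_two (orderOf_pos g).ne')).of_dvd_nat
        (orderOf_dvd_of_pow_eq_one ?_)
      rw [← zpow_natCast, ← zpow_mul, show ((P : ℤ) * Nat.gcdB m P) * (m : ℤ) =
        ((P * m : ℕ) : ℤ) * Nat.gcdB m P by push_cast; ring, zpow_mul, ho, zpow_natCast, pow_orderOf_eq_one,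
        one_zpow]

variable (hP : ptGroup U b ≠ ⊥)
include hP

theorem z_mul_w {u v l : G} (hu : u ∈ wGroup U b) (hv : v ∈ wGroup U b) (hl : l ∈ wGroup U b)
    (h : u⁻¹ * v ∈ zgroup U) (hvl : v * l ∈ zgroup U) : u * l ∈ zgroup U := by
  have e : u * l = v * l * (v⁻¹ * u) := by
    rw [show v * l * (v⁻¹ * u) = v * (l * v⁻¹) * u by group,
      (w_comm hS hU hb hP hl (inv_mem hv)).eq, show v * (v⁻¹ * l) * u = l * u by group,
      (w_comm hS hU hb hP hl hu).eq]
  rw [e]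
  refine mul_mem hvl ?_
  have := inv_mem h
  rwa [mul_inv_rev, inv_inv] at this

/-- A moved value rules out being fixed modulo the centre. -/
theorem not_fixed {y x z : G} (hy : y ∈ yGroup U b) (hx : x ∈ ptGroup U b) (hz : z ∈ cpt a U a)
    (h : (x * z) • y • b = y • b) :
    ∃ d : G, d • a = a ∧ d • b = b ∧ (∀ p ∈ ptGroup U b, Commute d p) ∧
      y⁻¹ * (d * y * d⁻¹) ∉ wGroup U b := by
  obtain ⟨z', hz', hne⟩ := exists_cpt_ne hS a z
  obtain ⟨d, hda, hdb, hdz, hdP⟩ := exists_mover hS hU hb hz hz'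
  refine ⟨d, hda, hdb, hdP, fun hw => hne ?_⟩
  have e := mu_move hS hU hb hP hdb (hdP x hx) h
  rw [hdz] at e
  exact (mu_unique hS hU hb hP hy hw hx hz hz' h (by rwa [mul_inv_cancel_left])).symm

theorem exists_label : ∃ lab : G → G, IsLabel a b U lab := by
  classical
  obtain ⟨x, hx, hx1, -⟩ := exists_pt_invol hS hU hb hP
  set D := pairStab G a b ⊓ Subgroup.centralizer (ptGroup U b : Set G) with hDdef
  have memD : ∀ {d : G}, d ∈ D ↔ d • a = a ∧ d • b = b ∧ ∀ p ∈ ptGroup U b, Commute d p := fun {d} => by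
    rw [hDdef, Subgroup.mem_inf, mem_pairStab hS, Subgroup.mem_centralizer_iff, and_assoc]
    exact ⟨fun h => ⟨h.1, h.2.1, fun p hp => (h.2.2 p hp).symm⟩,
      fun h => ⟨h.1, h.2.1, fun p hp => (h.2.2 p hp).symm⟩⟩
  have hKn : ∀ d ∈ D, ∀ k ∈ ptGroup U b, d * k * d⁻¹ ∈ ptGroup U b := fun d hd k hk => by
    rw [((memD.1 hd).2.2 k hk).eq, mul_inv_cancel_right]
    exact hk
  obtain ⟨F, hF, hFm, hFr, hFl, hFi⟩ := exists_average (yGroup U b) (zgroup U) D (ptGroup U b) hKn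
    (fun y hy n hn => zgroup_conj hS (ua hS (yGroup_le hy)) hn) (fun y hy => y_sq hS hU hb hP hy)
    (fun d hd y hy => pair_conj_y hS hU hb (memD.1 hd).1 (memD.1 hd).2.1 hy)
    (fun d hd n hn => zgroup_conj hS (memD.1 hd).1 hn)
    (fun k hk y hy => by
      rw [show y⁻¹ * (k * y * k⁻¹) = y⁻¹ * k * y⁻¹⁻¹ * k⁻¹ by group,
        inv_eq_of_mul_eq_one_right (pt_sq hS hU hb hP hk)]
      exact bc hS hU hb hP (inv_mem hy) hk)
    (odd_pair_index hS hU hb inf_le_left hKn)
  -- the values lie in the product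
  have hFW : ∀ y ∈ yGroup U b, F y ∈ wGroup U b := fun y hy => by
    by_contra hW
    obtain ⟨z, hz, e⟩ := exists_mu hS hU hb hP (hF y hy) hW hx hx1
    obtain ⟨d, hda, hdb, hdP, hd⟩ := not_fixed hS hU hb hP (hF y hy) hx hz e
    exact hd (zgroup_le_wGroup (hFl d (memD.2 ⟨hda, hdb, hdP⟩) y hy))
  have part : ∀ y ∈ yGroup U b, ∃ p ∈ ptGroup U b, F y * p ∈ zgroup U := fun y hy => by
    obtain ⟨z, hz, p, hp, e⟩ := hFW y hy
    exact ⟨p, hp, by rw [← e, mul_assoc, pt_sq hS hU hb hP hp, mul_one]; exact hz⟩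
  have uniq : ∀ {g p p' : G}, p ∈ ptGroup U b → p' ∈ ptGroup U b → g * p ∈ zgroup U → g * p' ∈ zgroup U →
      p = p' := fun {g p p'} hp hp' h h' => by
    have h2 : p⁻¹ * p' ∈ zgroup U := by
      have := mul_mem (inv_mem h) h'
      rwa [mul_inv_rev, show p⁻¹ * g⁻¹ * (g * p') = p⁻¹ * p' by group] at this
    exact inv_mul_eq_one.1 (by_contra fun hne => pt_not_z hS hb (mul_mem (inv_mem hp) hp') hne h2)
  choose! lab hlab hlab' using part
  refine ⟨lab, hlab, fun y hy y' hy' => ?_, fun p hp => ?_, fun z hz => ?_, fun d hda hdb hdP y hy => ?_⟩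
  · have hyy := mul_mem hy hy'
    have h1 : F y * F y' * (lab y * lab y') ∈ zgroup U := by
      rw [show F y * F y' * (lab y * lab y') = F y * (F y' * lab y) * lab y' by group,
        (w_comm hS hU hb hP (hFW y' hy') (ptGroup_le_wGroup (hlab y hy))).eq,
        show F y * (lab y * F y') * lab y' = F y * lab y * (F y' * lab y') by group]
      exact mul_mem (hlab' y hy) (hlab' y' hy')
    exact uniq (hlab _ hyy) (mul_mem (hlab y hy) (hlab y' hy')) (hlab' _ hyy)
      (z_mul_w hS hU hb hP (hFW _ hyy) (mul_mem (hFW y hy) (hFW y' hy'))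
        (mul_mem (ptGroup_le_wGroup (hlab y hy)) (ptGroup_le_wGroup (hlab y' hy'))) (hFm y hy y' hy') h1)
  · have hy := wGroup_le_yGroup (ptGroup_le_wGroup hp)
    have h1 := hFi p hy fun d hd => by
      rw [((memD.1 hd).2.2 p hp).eq, mul_inv_cancel_right, inv_mul_cancel]
      exact one_mem _
    exact uniq (hlab _ hy) hp (hlab' _ hy) (z_mul_w hS hU hb hP (hFW _ hy) (ptGroup_le_wGroup hp)
      (ptGroup_le_wGroup hp) h1 (by rw [pt_sq hS hU hb hP hp]; exact one_mem _))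
  · have hy : z ∈ yGroup U b := wGroup_le_yGroup (zgroup_le_wGroup hz)
    have h1 := hFi z hy fun d hd => mul_mem (inv_mem hz) (zgroup_conj hS (memD.1 hd).1 hz)
    exact uniq (hlab _ hy) (one_mem _) (hlab' _ hy) (z_mul_w hS hU hb hP (hFW _ hy) (zgroup_le_wGroup hz)
      (one_mem _) h1 (by rw [mul_one]; exact hz))
  · have hyd := pair_conj_y hS hU hb hda hdb hy
    exact uniq (hlab _ hyd) (hlab y hy) (hlab' _ hyd) (z_mul_w hS hU hb hP (hFW _ hyd) (hFW y hy)
      (ptGroup_le_wGroup (hlab y hy)) (hFr d (memD.2 ⟨hda, hdb, hdP⟩) y hy) (hlab' y hy))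

variable {lab : G → G} (hL : IsLabel a b U lab)
include hL

theorem kerLab_w {w : G} (hw : w ∈ wGroup U b) (h : lab w = 1) : w ∈ zgroup U := by
  obtain ⟨z, hz, p, hp, rfl⟩ := hw
  rw [hL.mul z (wGroup_le_yGroup (zgroup_le_wGroup hz)) p (wGroup_le_yGroup (ptGroup_le_wGroup hp)),
    hL.central z hz, hL.pt p hp, one_mul] at h
  rw [h, mul_one]
  exact hz

theorem lab_one : lab 1 = 1 := hL.central 1 (one_mem _)

theorem lab_inv {y : G} (hy : y ∈ yGroup U b) : lab y⁻¹ = lab y := by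
  have h := hL.mul y hy y⁻¹ (inv_mem hy)
  rw [mul_inv_cancel, lab_one hS hU hb hP hL] at h
  rw [← inv_eq_of_mul_eq_one_right h.symm, inv_eq_of_mul_eq_one_right (pt_sq hS hU hb hP (hL.mem y hy))]

/-- The nontrivial classes of the kernel of the label are permuted transitively. -/
theorem kerLab_trans {y y' : G} (hy : y ∈ yGroup U b) (hy' : y' ∈ yGroup U b) (h : lab y = 1) (h' : lab y' = 1)
    (hz : y ∉ zgroup U) (hz' : y' ∉ zgroup U) :
    ∃ d : G, d • a = a ∧ d • b = b ∧ (∀ p ∈ ptGroup U b, Commute d p) ∧ y'⁻¹ * (d * y * d⁻¹) ∈ zgroup U := by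
  obtain ⟨x, hx, hx1, -⟩ := exists_pt_invol hS hU hb hP
  have hW : y ∉ wGroup U b := fun hw => hz (kerLab_w hS hU hb hP hL hw h)
  have hW' : y' ∉ wGroup U b := fun hw => hz' (kerLab_w hS hU hb hP hL hw h')
  obtain ⟨z, hzc, e⟩ := exists_mu hS hU hb hP hy hW hx hx1
  obtain ⟨z', hzc', e'⟩ := exists_mu hS hU hb hP hy' hW' hx hx1
  obtain ⟨d, hda, hdb, hdz, hdP⟩ := exists_mover hS hU hb hzc hzc'
  have hyd := pair_conj_y hS hU hb hda hdb hy
  have e2 := mu_move hS hU hb hP hdb (hdP x hx) e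
  rw [hdz] at e2
  refine ⟨d, hda, hdb, hdP, kerLab_w hS hU hb hP hL (mu_inj hS hU hb hP hy' hyd hx hx1 hzc' e' e2) ?_⟩
  rw [hL.mul _ (inv_mem hy') _ hyd, lab_inv hS hU hb hP hL hy', hL.inv d hda hdb hdP y hy, h, h', one_mul]

/-- All involutions of the normaliser outside the product have one label. -/
theorem same_label {j j' : G} (hj : j ∈ yGroup U b) (hjW : j ∉ wGroup U b) (hj2 : j * j = 1)
    (hj' : j' ∈ yGroup U b) (hjW' : j' ∉ wGroup U b) (hj2' : j' * j' = 1) : lab j = lab j' := by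
  have hp := hL.mem j hj
  have hp' := hL.mem j' hj'
  have base : ∀ {j : G}, j ∈ yGroup U b → j ∉ wGroup U b → j * lab j ∈ yGroup U b ∧ lab (j * lab j) = 1 ∧
      j * lab j ∉ zgroup U := fun {j} hj hjW => by
    have hpw := ptGroup_le_wGroup (hL.mem j hj)
    refine ⟨mul_mem hj (wGroup_le_yGroup hpw), ?_, fun h => hjW ?_⟩
    · rw [hL.mul j hj _ (wGroup_le_yGroup hpw), hL.pt _ (hL.mem j hj), pt_sq hS hU hb hP (hL.mem j hj)]
    · have := mul_mem (zgroup_le_wGroup h) (inv_mem hpw)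
      rwa [mul_inv_cancel_right] at this
  obtain ⟨hy, hy1, hyz⟩ := base hj hjW
  obtain ⟨hy', hy1', hyz'⟩ := base hj' hjW'
  obtain ⟨d, hda, hdb, hdP, hd⟩ := kerLab_trans hS hU hb hP hL hy hy' hy1 hy1' hyz hyz'
  set n := (j' * lab j')⁻¹ * (d * (j * lab j) * d⁻¹) with hn
  have hcj : d * j * d⁻¹ = j' * lab j' * n * lab j :=
    calc d * j * d⁻¹ = d * (j * lab j) * d⁻¹ * lab j := by
          rw [show d * (j * lab j) * d⁻¹ = d * j * d⁻¹ * (d * lab j * d⁻¹) by group, (hdP _ hp).eq,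
            mul_inv_cancel_right, mul_assoc (d * j * d⁻¹), pt_sq hS hU hb hP hp, mul_one]
      _ = _ := by rw [hn, mul_inv_cancel_left]
  have hsq : (j' * lab j' * lab j) * (j' * lab j' * lab j) = 1 := by
    have hc : ∀ u ∈ U, Commute u n := (mem_zgroup.1 hd).2.2
    have h := conj_sq (g := d) hj2
    rw [hcj, show j' * lab j' * n * lab j = j' * lab j' * lab j * n by
      rw [mul_assoc _ n, ← (hc _ hp.1).eq, ← mul_assoc]] at h
    exact sq_of_mul_central (mem_zgroup.1 hd).2.1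
      (hc _ (mul_mem (mul_mem (yGroup_le hj') hp'.1) hp.1)) h
  -- so the product of the labels commutes with an element outside the product
  by_contra hne
  have hpp : lab j' * lab j ∈ ptGroup U b := mul_mem hp' hp
  refine hjW' (cent_pt hS hU hb hP hpp (fun h => hne ?_) (yGroup_le hj') ?_)
  · rw [mul_eq_one_iff_eq_inv, inv_eq_of_mul_eq_one_right (pt_sq hS hU hb hP hp)] at h
    exact h.symm
  · have h2 := pt_sq hS hU hb hP hpp
    set q := lab j' * lab j with hq
    have e : j' * q * (j' * q) = 1 := by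
      rw [hq, ← mul_assoc j' (lab j') (lab j)]
      exact hsq
    show j' * q = q * j'
    calc j' * q = (j' * q)⁻¹ := (inv_eq_of_mul_eq_one_right e).symm
      _ = q⁻¹ * j'⁻¹ := mul_inv_rev _ _
      _ = q * j' := by rw [inv_eq_of_mul_eq_one_right h2, inv_eq_of_mul_eq_one_right hj2']

omit hL

theorem exists_r : ∃ r ∈ U, r ∉ yGroup U b ∧ ∀ y ∈ yGroup U b, r * y * r⁻¹ ∈ yGroup U b := by
  classical
  haveI := hS.nilpotent
  haveI := finite_pts hS
  obtain ⟨x, hx, hx1, -⟩ := exists_pt_invol hS hU hb hP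
  have hne : (yGroup U b).subgroupOf U < ⊤ := lt_top_iff_ne_top.2 fun h => by
    have hle : U ≤ yGroup U b := Subgroup.subgroupOf_eq_top.1 h
    -- one element for each value
    let rep : zgroup U → G := fun z =>
      if h : ∃ y, y ∈ yGroup U b ∧ (x * (z : G)) • y • b = y • b then h.choose else 1
    have hrep : ∀ (z : zgroup U) (y : G), y ∈ yGroup U b → (x * (z : G)) • y • b = y • b →
        rep z ∈ yGroup U b ∧ (x * (z : G)) • rep z • b = rep z • b := fun z y hy e => by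
      have h : ∃ y, y ∈ yGroup U b ∧ (x * (z : G)) • y • b = y • b := ⟨y, hy, e⟩
      simp only [rep, dif_pos h]
      exact h.choose_spec
    have hmem : ∀ z : zgroup U, rep z ∈ U := fun z => by
      by_cases h : ∃ y, y ∈ yGroup U b ∧ (x * (z : G)) • y • b = y • b
      · simp only [rep, dif_pos h]; exact yGroup_le h.choose_spec.1
      · simp only [rep, dif_neg h]; exact one_mem _
    let f : zgroup U × zgroup U → {c : Ω // c ≠ a} := fun p => ⟨(p.2 : G) • rep p.1 • b, fun e => hb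
      (MulAction.injective (rep p.1) ((MulAction.injective (p.2 : G)
        (e.trans (ua hS (mem_zgroup.1 p.2.2).1).symm)).trans (ua hS (hmem p.1)).symm))⟩
    have hf : Function.Surjective f := by
      rintro ⟨c, hc⟩
      obtain ⟨u, hu, rfl⟩ := hS.trans b c hb hc
      have huY := hle hu
      obtain ⟨z, hz, e⟩ : ∃ z ∈ zgroup U, (x * z) • u • b = u • b := by
        by_cases huW : u ∈ wGroup U b
        · obtain ⟨z₀, hz₀, p, hp, rfl⟩ := huW
          refine ⟨1, one_mem _, ?_⟩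
          rw [mul_one, mul_smul z₀ p, show p • b = b from hp.2]
          exact fix_comm ((mem_zgroup.1 hz₀).2.2 x hx.1) hx.2
        · obtain ⟨z, hz, e⟩ := exists_mu hS hU hb hP huY huW hx hx1
          exact ⟨z, (zgroup_iff hS).2 (Or.inr hz), e⟩
      obtain ⟨h1, h2⟩ := hrep ⟨z, hz⟩ u huY e
      have hw : (rep ⟨z, hz⟩)⁻¹ * u ∈ wGroup U b := by
        rcases (zgroup_iff hS).1 hz with rfl | hzc
        · rw [mul_one] at e h2
          exact mul_mem (inv_mem (tame hS hU hb hx hx1 (yGroup_le h1) h2)) (tame hS hU hb hx hx1 hu e)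
        · exact mu_inj hS hU hb hP h1 huY hx hx1 hzc h2 e
      obtain ⟨z₀, hz₀, p, hp, e'⟩ := hw
      refine ⟨(⟨z, hz⟩, ⟨z₀, hz₀⟩), Subtype.ext ?_⟩
      show z₀ • rep ⟨z, hz⟩ • b = u • b
      rw [show u = rep ⟨z, hz⟩ * (z₀ * p) by rw [e', mul_inv_cancel_left], ← mul_assoc,
        ((mem_zgroup.1 hz₀).2.2 _ (yGroup_le h1)).eq, mul_smul, mul_smul, show p • b = b from hp.2]
    have h1 := Nat.card_le_card_of_surjective f hf
    rw [others_card hS hU hb hP, Nat.card_prod] at h1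
    have hq : 2 ≤ Nat.card (zgroup U) := by
      rw [card_zgroup hS]
      obtain ⟨z, hz, -⟩ := exists_cpt hS a
      haveI : Nonempty (cpt a U a) := ⟨⟨z, hz⟩⟩
      have := Nat.card_pos (α := cpt a U a)
      omega
    generalize Nat.card (zgroup U) = q at h1 hq
    have : q * q < q ^ 3 := by
      calc q * q = q ^ 2 := (pow_two q).symm
        _ < q ^ 3 := Nat.pow_lt_pow_right hq (by norm_num)
    omega
  obtain ⟨⟨r, hrU⟩, hr, hr'⟩ := SetLike.exists_of_lt (Group.normalizerCondition_of_isNilpotent _ hne)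
  exact ⟨r, hrU, hr', fun y hy => (Subgroup.mem_normalizer_iff.1 hr ⟨y, yGroup_le hy⟩).1 hy⟩

theorem r_image {r p : G} (hr : r ∈ U) (hrY : r ∉ yGroup U b) (hn : ∀ y ∈ yGroup U b, r * y * r⁻¹ ∈ yGroup U b)
    (hp : p ∈ ptGroup U b) (hp1 : p ≠ 1) :
    r * p * r⁻¹ ∈ yGroup U b ∧ r * p * r⁻¹ ∉ wGroup U b ∧ r * p * r⁻¹ * (r * p * r⁻¹) = 1 :=
  ⟨hn p (wGroup_le_yGroup (ptGroup_le_wGroup hp)), fun h => hrY (mem_y_of_conj hS hU hb hP hp hp1 hr h),
    conj_sq (pt_sq hS hU hb hP hp)⟩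

include hL

/-- An involution outside the product has a nontrivial label. -/
theorem label_ne {j : G} (hj : j ∈ yGroup U b) (hjW : j ∉ wGroup U b) (hj2 : j * j = 1) : lab j ≠ 1 := by
  intro hj0
  obtain ⟨x, hx, hx1, -⟩ := exists_pt_invol hS hU hb hP
  obtain ⟨r, hr, hrY, hn⟩ := exists_r hS hU hb hP
  obtain ⟨hjr, hjrW, hjr2⟩ := r_image hS hU hb hP hr hrY hn hx hx1
  have hl0 : lab (r * x * r⁻¹) = 1 := (same_label hS hU hb hP hL hjr hjrW hjr2 hj hjW hj2).trans hj0
  have hjrz : r * x * r⁻¹ ∉ zgroup U := fun h => hjrW (zgroup_le_wGroup h)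
  -- the kernel of the label is elementary
  have hexp : ∀ y ∈ yGroup U b, lab y = 1 → y * y = 1 := by
    intro y hy hy1
    by_cases hyz : y ∈ zgroup U
    · exact (mem_zgroup.1 hyz).2.1
    obtain ⟨d, hda, hdb, hdP, hd⟩ := kerLab_trans hS hU hb hP hL hjr hy hl0 hy1 hjrz hyz
    set n := y⁻¹ * (d * (r * x * r⁻¹) * d⁻¹) with hn'
    have h := conj_sq (g := d) hjr2
    rw [show d * (r * x * r⁻¹) * d⁻¹ = y * n by rw [hn', mul_inv_cancel_left],
      show y * n * (y * n) = y * (n * y) * n by group, ← ((mem_zgroup.1 hd).2.2 y (yGroup_le hy)).eq,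
      show y * (y * n) * n = y * y * (n * n) by group, (mem_zgroup.1 hd).2.1, mul_one] at h
    exact h
  -- hence equal to the conjugate of the product by `r`, for any such `r`
  have hker : ∀ r ∈ U, r ∉ yGroup U b → (∀ y ∈ yGroup U b, r * y * r⁻¹ ∈ yGroup U b) → ∀ w,
      (r * w * r⁻¹ ∈ yGroup U b ∧ lab (r * w * r⁻¹) = 1) ↔ w ∈ wGroup U b := by
    intro r hr hrY hn w
    obtain ⟨hk, hkW, hk2⟩ := r_image hS hU hb hP hr hrY hn hx hx1
    have hk0 : lab (r * x * r⁻¹) = 1 := (same_label hS hU hb hP hL hk hkW hk2 hj hjW hj2).trans hj0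
    constructor
    · rintro ⟨hy, hy1⟩
      set y := r * w * r⁻¹ with hy'
      have h3 := hexp _ (mul_mem hy hk) (by rw [hL.mul y hy _ hk, hy1, hk0, one_mul])
      have hcm : Commute y (r * x * r⁻¹) := by
        rw [mul_eq_one_iff_eq_inv, mul_inv_rev, inv_eq_of_mul_eq_one_right hk2,
          inv_eq_of_mul_eq_one_right (hexp y hy hy1)] at h3
        exact h3
      have hwU : w ∈ U := by
        have := mul_mem (mul_mem (inv_mem hr) (yGroup_le hy)) hr
        rwa [hy', show r⁻¹ * (r * w * r⁻¹) * r = w by group] at this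
      exact cent_pt hS hU hb hP hx hx1 hwU ((Commute.conj_iff r).1 hcm)
    · rintro ⟨z, hz, p, hp, rfl⟩
      have hzY := wGroup_le_yGroup (b := b) (zgroup_le_wGroup hz)
      have e : r * (z * p) * r⁻¹ = z * (r * p * r⁻¹) := by
        rw [← mul_assoc r z p, ((mem_zgroup.1 hz).2.2 r hr).eq]; group
      have hpY := hn p (wGroup_le_yGroup (ptGroup_le_wGroup hp))
      refine ⟨e ▸ mul_mem hzY hpY, ?_⟩
      rw [e, hL.mul z hzY _ hpY, hL.central z hz, one_mul]
      by_cases hp1 : p = 1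
      · rw [hp1, mul_one, mul_inv_cancel, lab_one hS hU hb hP hL]
      · obtain ⟨h1, h2, h3⟩ := r_image hS hU hb hP hr hrY hn hp hp1
        exact (same_label hS hU hb hP hL h1 h2 h3 hj hjW hj2).trans hj0
  obtain ⟨z, hz, e⟩ := exists_mu hS hU hb hP hjr hjrW hx hx1
  obtain ⟨d, hda, hdb, hdP, hd⟩ := not_fixed hS hU hb hP hjr hx hz e
  refine hd ?_
  -- `d` fixes the coset of `r`
  set r' := d * r * d⁻¹ with hr'
  have hda' : d⁻¹ • a = a := inv_smul_eq_iff.2 hda.symm
  have hdb' : d⁻¹ • b = b := inv_smul_eq_iff.2 hdb.symm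
  have hr'U : r' ∈ U := hS.conj_mem d hda r hr
  have hr'Y : r' ∉ yGroup U b := fun h => hrY (by
    have := pair_conj_y hS hU hb hda' hdb' h
    rwa [hr', inv_inv, show d⁻¹ * (d * r * d⁻¹) * d = r by group] at this)
  have hr'n : ∀ y ∈ yGroup U b, r' * y * r'⁻¹ ∈ yGroup U b := fun y hy => by
    have h1 := pair_conj_y hS hU hb hda' hdb' hy
    rw [inv_inv] at h1
    have h2 := pair_conj_y hS hU hb hda hdb (hn _ h1)
    rwa [show d * (r * (d⁻¹ * y * d) * r⁻¹) * d⁻¹ = r' * y * r'⁻¹ by rw [hr']; group] at h2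
  have hy : r⁻¹ * r' ∈ yGroup U b := by
    refine Subgroup.mem_inf.2 ⟨mul_mem (inv_mem hr) hr'U, ?_⟩
    haveI : Finite (wGroup U b : Set G) := Subtype.finite
    refine Subgroup.mem_normalizer_fintype fun w hw => ?_
    refine (hker r hr hrY hn _).1 ?_
    rw [show r * (r⁻¹ * r' * w * (r⁻¹ * r')⁻¹) * r⁻¹ = r' * w * r'⁻¹ by group]
    exact (hker r' hr'U hr'Y hr'n w).2 hw
  set y := r⁻¹ * r'
  have hbx := bc hS hU hb hP hy hx
  have e1 : d * (r * x * r⁻¹) * d⁻¹ = r * x * r⁻¹ * (y * x * y⁻¹ * x) := by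
    have h1 : d * (r * x * r⁻¹) * d⁻¹ = r' * x * r'⁻¹ := by
      rw [show d * (r * x * r⁻¹) * d⁻¹ = r' * (d * x * d⁻¹) * r'⁻¹ by rw [hr']; group,
        (hdP x hx).eq, mul_inv_cancel_right]
    have h2 : r' * x * r'⁻¹ = r * (y * x * y⁻¹ * x * x) * r⁻¹ := by
      rw [mul_assoc (y * x * y⁻¹) x x, pt_sq hS hU hb hP hx, mul_one,
        show r' = r * y from (mul_inv_cancel_left r r').symm]
      group
    rw [h1, h2, show r * (y * x * y⁻¹ * x * x) * r⁻¹ = r * (y * x * y⁻¹ * x) * (x * r⁻¹) by group,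
      ((mem_zgroup.1 hbx).2.2 r hr).eq,
      show y * x * y⁻¹ * x * r * (x * r⁻¹) = y * x * y⁻¹ * x * (r * x * r⁻¹) by group,
      ((mem_zgroup.1 hbx).2.2 _ (yGroup_le hjr)).eq]
  rw [e1, inv_mul_cancel_left]
  exact zgroup_le_wGroup hbx

/-- The stabiliser has order two, and the involutions of the normaliser carry its involution as label. -/
theorem order_two : ∃ x ∈ ptGroup U b, x ≠ 1 ∧ (∀ p ∈ ptGroup U b, p = 1 ∨ p = x) ∧
    ∀ y ∈ yGroup U b, lab y = 1 → x * y * (x * y) = 1 := by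
  obtain ⟨x, hx, hx1, hx2⟩ := exists_pt_invol hS hU hb hP
  obtain ⟨r, hr, hrY, hn⟩ := exists_r hS hU hb hP
  have hall : ∀ p ∈ ptGroup U b, p = 1 ∨ p = x := by
    intro p hp
    by_contra h
    push Not at h
    have hpx : p * x ≠ 1 := fun e => h.2 (by
      rw [mul_eq_one_iff_eq_inv, inv_eq_of_mul_eq_one_right hx2] at e; exact e)
    obtain ⟨a1, a2, a3⟩ := r_image hS hU hb hP hr hrY hn hp h.1
    obtain ⟨b1, b2, b3⟩ := r_image hS hU hb hP hr hrY hn hx hx1
    obtain ⟨c1, c2, c3⟩ := r_image hS hU hb hP hr hrY hn (mul_mem hp hx) hpx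
    have e : lab (r * (p * x) * r⁻¹) = lab (r * p * r⁻¹) * lab (r * x * r⁻¹) := by
      rw [← hL.mul _ a1 _ b1]; congr 1; group
    rw [same_label hS hU hb hP hL c1 c2 c3 b1 b2 b3, same_label hS hU hb hP hL a1 a2 a3 b1 b2 b3,
      left_eq_mul] at e
    exact label_ne hS hU hb hP hL b1 b2 b3 e
  refine ⟨x, hx, hx1, hall, fun y hy hy1 => ?_⟩
  by_cases hyz : y ∈ zgroup U
  · exact commute_sq hx2 (mem_zgroup.1 hyz).2.1 ((mem_zgroup.1 hyz).2.2 x hx.1)
  obtain ⟨hj, hjW, hj2⟩ := r_image hS hU hb hP hr hrY hn hx hx1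
  set j := r * x * r⁻¹
  have hjl : lab j = x := (hall _ (hL.mem j hj)).resolve_left (label_ne hS hU hb hP hL hj hjW hj2)
  have hxY := wGroup_le_yGroup (ptGroup_le_wGroup hx)
  have hy' : lab (j * x) = 1 := by rw [hL.mul j hj x hxY, hjl, hL.pt x hx, hx2]
  have hy'z : j * x ∉ zgroup U := fun h => hjW (by
    have := mul_mem (zgroup_le_wGroup (b := b) h) (inv_mem (ptGroup_le_wGroup hx))
    rwa [mul_inv_cancel_right] at this)
  obtain ⟨d, hda, hdb, hdP, hd⟩ := kerLab_trans hS hU hb hP hL (mul_mem hj hxY) hy hy' hy1 hy'z hyz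
  set n := y⁻¹ * (d * (j * x) * d⁻¹) with hn'
  have hcj : d * j * d⁻¹ = y * n * x :=
    calc d * j * d⁻¹ = d * (j * x) * d⁻¹ * x := by
          rw [show d * (j * x) * d⁻¹ = d * j * d⁻¹ * (d * x * d⁻¹) by group, (hdP x hx).eq, mul_inv_cancel_right,
            mul_assoc (d * j * d⁻¹), hx2, mul_one]
      _ = _ := by rw [hn', mul_inv_cancel_left]
  have hc : ∀ u ∈ U, Commute u n := (mem_zgroup.1 hd).2.2
  have h0 := conj_sq (g := d) hj2
  rw [hcj, show y * n * x = y * x * n by rw [mul_assoc _ n, ← (hc x hx.1).eq, ← mul_assoc]] at h0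
  have h := sq_of_mul_central (mem_zgroup.1 hd).2.1 (hc _ (mul_mem (yGroup_le hy) hx.1)) h0
  rw [show x * y * (x * y) = y⁻¹ * (y * x * (y * x)) * y by group, h, mul_one, inv_mul_cancel]

end Facts

end Cfsg.Lib.SplitRankOne
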