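import Cfsg.Agent.SplitRankOne.Label
import Mathlib.GroupTheory.Focal

/-!
In a simple group the 2-group is regular on the other points: a subgroup of index two misses the involution
fixing two points, against the focal subgroup theorem.
-/

set_option autoImplicit false
set_option linter.unusedSectionVars false
set_option linter.style.haveILetI false

namespace Cfsg.Lib.SplitRankOne

open MulAction
open scoped commutatorElement

universe u v

variable {G : Type u} {Ω : Type v} [Group G] [MulAction G Ω]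

section Facts

variable [Finite G] {a b : Ω} {U : Subgroup G} (hS : Split G Ω a U) (hU : IsPGroup 2 U)
include hS hU

theorem two_elem {v : G} (hv : v ∈ U) : ∃ k : ℕ, v ^ 2 ^ k = 1 :=
  (hU ⟨v, hv⟩).imp fun _ h => congrArg Subtype.val h

/-- `U` is a Sylow subgroup. -/
theorem exists_sylow : ∃ R : Sylow 2 G, (R : Subgroup G) = U := by
  haveI := Fact.mk Nat.prime_two
  haveI := finite_pts hS
  obtain ⟨R, hR⟩ := hU.exists_le_sylow
  refine ⟨R, le_antisymm (fun g hg => ?_) hR⟩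
  have hodd : ¬ 2 ∣ Nat.card Ω := by
    rw [← even_iff_two_dvd, Nat.not_even_iff_odd]
    exact hS.odd_pts
  obtain ⟨c, hc⟩ := R.isPGroup'.nonempty_fixed_point_of_prime_not_dvd_card Ω hodd
  obtain ⟨z, hz, -⟩ := exists_cpt hS a
  have hzR : z ∈ (R : Subgroup G) := hR ((cpt_self hS).1 hz).1
  obtain rfl := cpt_only hS hz (hc ⟨z, hzR⟩)
  obtain ⟨k, hk⟩ := R.isPGroup' ⟨g, hg⟩
  exact hS.two_mem g (hc ⟨g, hg⟩) k (congrArg Subtype.val hk)

/-- Conjugacy inside `U` is realised in the point stabiliser. -/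
theorem fusion_stab {v g : G} (hv : v ∈ U) (hg : g * v * g⁻¹ ∈ U) :
    ∃ h : G, h • a = a ∧ h * v * h⁻¹ = g * v * g⁻¹ := by
  obtain ⟨z, hz, -⟩ := exists_cpt hS a
  obtain ⟨w, hw, -⟩ := exists_cpt hS (g • a)
  obtain ⟨k, hk⟩ := two_elem hS hU hg
  have hfix : (g * v * g⁻¹) • g • a = g • a := fix_conj (hS.le hv)
  obtain ⟨s, hs, hsa⟩ := exists_swap_comm hS hw hz ((cpt_comm hS hw hfix hk).symm)
    ((cpt_comm hS hz (hS.le hg) hk).symm)
  refine ⟨s * g, by rw [mul_smul, hsa], ?_⟩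
  rw [show s * g * v * (s * g)⁻¹ = s * (g * v * g⁻¹) * s⁻¹ by group, ← hs.eq, mul_inv_cancel_right]

theorem focal_le (hsim : IsSimpleGroup G) (hna : ¬ IsMulCommutative G) {M : Subgroup G}
    (h : ∀ v ∈ U, ∀ g : G, g • a = a → v⁻¹ * (g * v * g⁻¹) ∈ M) : U ≤ M := by
  haveI := Fact.mk Nat.prime_two
  obtain ⟨R, hR⟩ := exists_sylow hS hU
  have hc : _root_.commutator G = ⊤ :=
    (hsim.eq_bot_or_eq_top_of_normal _ inferInstance).resolve_left fun hb => hna ⟨⟨fun x y => by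
      refine commutatorElement_eq_one_iff_mul_comm.mp ?_
      rw [← Subgroup.mem_bot, ← hb]
      exact Subgroup.commutator_mem_commutator (Subgroup.mem_top x) (Subgroup.mem_top y)⟩⟩
  have e := Subgroup.commutator_inf_eq_focalSubgroup R
  rw [hc, top_inf_eq] at e
  rw [← hR, e, Subgroup.focalSubgroup_def, Subgroup.closure_le]
  rintro _ ⟨hmem, v, hv, g, rfl⟩
  rw [hR] at hv hmem
  have hg : g * v⁻¹ * g⁻¹ ∈ U := by
    have := mul_mem (inv_mem hv) hmem
    rwa [commutatorElement_def, show v⁻¹ * (v * g * v⁻¹ * g⁻¹) = g * v⁻¹ * g⁻¹ by group] at this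
  obtain ⟨k, hk, e'⟩ := fusion_stab hS hU (inv_mem hv) hg
  have := h _ (inv_mem hv) k hk
  rwa [e', inv_inv, show v * (g * v⁻¹ * g⁻¹) = ⁅v, g⁆ by rw [commutatorElement_def]; group] at this

variable (hb : b ≠ a) (hP : ptGroup U b ≠ ⊥) {lab : G → G} (hL : IsLabel a b U lab) {x : G}
  (hx : x ∈ ptGroup U b) (hx1 : x ≠ 1) (hall : ∀ p ∈ ptGroup U b, p = 1 ∨ p = x)
  (hinv : ∀ y ∈ yGroup U b, lab y = 1 → x * y * (x * y) = 1)
include hb hP hL hx hx1 hall hinv

theorem lab_x_mul {y : G} (hy : y ∈ yGroup U b) (hy1 : lab y = 1) :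
    x * y ∈ yGroup U b ∧ lab (x * y) = x ∧ x * y ∉ zgroup U := by
  have hxY := wGroup_le_yGroup (ptGroup_le_wGroup hx)
  have h1 : lab (x * y) = x := by rw [hL.mul x hxY y hy, hL.pt x hx, hy1, mul_one]
  exact ⟨mul_mem hxY hy, h1, fun h => hx1 (h1.symm.trans (hL.central _ h))⟩

theorem conj_of_invol {i : G} (hi : i ∈ U) (hi2 : i * i = 1) (hiz : i ∉ zgroup U) :
    ∃ u ∈ U, u * x * u⁻¹ = i := by
  have hi1 : i ≠ 1 := fun e => hiz (e ▸ one_mem _)
  obtain ⟨c, hca, hc⟩ := fix_two hS hi2 hi1 (ua hS hi) fun h' => hiz ((zgroup_iff hS).2 (Or.inr h'))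
  obtain ⟨u, hu, rfl⟩ := hS.trans b c hb hca
  have hp : u⁻¹ * i * u ∈ ptGroup U b := Subgroup.mem_inf.2 ⟨mul_mem (mul_mem (inv_mem hu) hi) hu,
    show (u⁻¹ * i * u) • b = b by rw [mul_smul, mul_smul, hc, inv_smul_smul]⟩
  refine ⟨u, hu, ?_⟩
  rcases hall _ hp with e | e
  · rw [show u⁻¹ * i * u = u⁻¹ * i * u⁻¹⁻¹ by group] at e
    exact absurd (conj_eq_one_iff.1 e) hi1
  · rw [← e]; group

theorem conj_of_same {u v : G} (hu : u ∈ U) (hv : v ∈ U) (h : v • b = u • b) :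
    v * x * v⁻¹ = u * x * u⁻¹ := by
  have hm : u⁻¹ * v ∈ ptGroup U b := Subgroup.mem_inf.2
    ⟨mul_mem (inv_mem hu) hv, show (u⁻¹ * v) • b = b by rw [mul_smul, h, inv_smul_smul]⟩
  have hc := pt_comm hS hU hb hP hm hx
  calc v * x * v⁻¹ = u * (u⁻¹ * v * x) * v⁻¹ := by group
    _ = u * (x * (u⁻¹ * v)) * v⁻¹ := by rw [hc.eq]
    _ = u * x * u⁻¹ := by group

/-- The class of `x` in `U` is its coset of the kernel of the label. -/
theorem class_eq {u : G} (hu : u ∈ U) : ∃ y ∈ yGroup U b, lab y = 1 ∧ u * x * u⁻¹ = x * y := by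
  classical
  haveI := finite_pts hS
  let Y₁ := {y : G // y ∈ yGroup U b ∧ lab y = 1}
  obtain ⟨r, hr, hrY, hn⟩ := exists_r hS hU hb hP
  obtain ⟨hj, hjW, hj2⟩ := r_image hS hU hb hP hr hrY hn hx hx1
  have hxY := wGroup_le_yGroup (ptGroup_le_wGroup hx)
  have hx2 := pt_sq hS hU hb hP hx
  have hy₀ : r * x * r⁻¹ * x ∈ yGroup U b ∧ lab (r * x * r⁻¹ * x) = 1 ∧ r * x * r⁻¹ * x ∉ wGroup U b := by
    refine ⟨mul_mem hj hxY, ?_, fun h => hjW ?_⟩
    · rw [hL.mul _ hj x hxY, hL.pt x hx,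
        (hall _ (hL.mem _ hj)).resolve_left (label_ne hS hU hb hP hL hj hjW hj2), hx2]
    · have := mul_mem h (inv_mem (ptGroup_le_wGroup hx))
      rwa [mul_inv_cancel_right] at this
  obtain ⟨hy0, hy0l, hy0W⟩ := hy₀
  obtain ⟨z₀, hz₀, e₀⟩ := exists_mu hS hU hb hP hy0 hy0W hx hx1
  have hrep : ∀ z : zgroup U, ∃ y : Y₁, (x * (z : G)) • (y : G) • b = (y : G) • b ∧ ((z : G) = 1 → (y : G) = 1) := by
    intro z
    by_cases hz : (z : G) = 1
    · exact ⟨⟨1, one_mem _, lab_one hS hU hb hP hL⟩, by rw [hz, mul_one, one_smul]; exact hx.2, fun _ => rfl⟩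
    obtain ⟨d, hda, hdb, hdz, hdP⟩ := exists_mover hS hU hb hz₀ (((zgroup_iff hS).1 z.2).resolve_left hz)
    have e := mu_move hS hU hb hP hdb (hdP x hx) e₀
    rw [hdz] at e
    exact ⟨⟨_, pair_conj_y hS hU hb hda hdb hy0, (hL.inv d hda hdb hdP _ hy0).trans hy0l⟩, e,
      fun h => absurd h hz⟩
  choose rep hrep1 hrep2 using hrep
  -- the kernel has at least `q ^ 2` elements
  let g : zgroup U × zgroup U → Y₁ := fun p => ⟨(rep p.1 : G) * p.2,
    mul_mem (rep p.1).2.1 (wGroup_le_yGroup (zgroup_le_wGroup p.2.2)),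
    by rw [hL.mul _ (rep p.1).2.1 _ (wGroup_le_yGroup (zgroup_le_wGroup p.2.2)), (rep p.1).2.2,
      hL.central _ p.2.2, one_mul]⟩
  have hg : Function.Injective g := by
    rintro ⟨z, w⟩ ⟨z', w'⟩ h
    have h' : (rep z : G) * w = (rep z' : G) * w' := congrArg Subtype.val h
    have hz : z = z' := by
      have hm : (rep z : G)⁻¹ * rep z' ∈ wGroup U b := by
        rw [show (rep z : G)⁻¹ * rep z' = (w : G) * (w' : G)⁻¹ by
          rw [eq_mul_inv_iff_mul_eq, mul_assoc, ← h', inv_mul_cancel_left]]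
        exact zgroup_le_wGroup (mul_mem w.2 (inv_mem w'.2))
      by_cases h1 : (z : G) = 1
      · rw [hrep2 z h1, inv_one, one_mul] at hm
        by_contra hne
        have h2 : (z' : G) ≠ 1 := fun e => hne (Subtype.ext (h1.trans e.symm))
        have hz' := ((zgroup_iff hS).1 z'.2).resolve_left h2
        obtain ⟨z₁, hz₁, p, hp, e⟩ := hm
        have he := hrep1 z'
        rw [← e, mul_smul z₁ p, show p • b = b from hp.2, smul_smul (x * (z' : G)) z₁,
          ((mem_zgroup.1 hz₁).2.2 _ (mul_mem hx.1 ((cpt_self hS).1 hz').1)).eq, ← smul_smul] at he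
        have he' := MulAction.injective z₁ he
        have he'' : ((z' : G) * x) • b = b := by rwa [← (cpt_U hS hz' hx.1).eq]
        rw [mul_smul, show x • b = b from hx.2] at he''
        exact hb (cpt_only hS hz' he'')
      · by_cases h2 : (z' : G) = 1
        · rw [hrep2 z' h2, mul_one] at hm
          have hz := ((zgroup_iff hS).1 z.2).resolve_left h1
          obtain ⟨z₁, hz₁, p, hp, e⟩ := inv_mem hm
          rw [inv_inv] at e
          have he := hrep1 z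
          rw [← e, mul_smul z₁ p, show p • b = b from hp.2, smul_smul (x * (z : G)) z₁,
            ((mem_zgroup.1 hz₁).2.2 _ (mul_mem hx.1 ((cpt_self hS).1 hz).1)).eq, ← smul_smul] at he
          have he' := MulAction.injective z₁ he
          have he'' : ((z : G) * x) • b = b := by rwa [← (cpt_U hS hz hx.1).eq]
          rw [mul_smul, show x • b = b from hx.2] at he''
          exact absurd (cpt_only hS hz he'') hb
        · exact Subtype.ext (mu_unique hS hU hb hP (rep z).2.1 hm hx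
            (((zgroup_iff hS).1 z.2).resolve_left h1) (((zgroup_iff hS).1 z'.2).resolve_left h2) (hrep1 z)
            (by rw [mul_inv_cancel_left]; exact hrep1 z'))
    subst hz
    exact Prod.ext rfl (Subtype.ext (mul_left_cancel h'))
  -- their conjugating elements reach every point
  have hcv : ∀ y : Y₁, ∃ v ∈ U, v * x * v⁻¹ = x * y := fun y => by
    obtain ⟨h1, -, h3⟩ := lab_x_mul hS hU hb hP hL hx hx1 hall hinv y.2.1 y.2.2
    exact conj_of_invol hS hU hb hP hL hx hx1 hall hinv (yGroup_le h1) (hinv y y.2.1 y.2.2) h3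
  choose cv hcv1 hcv2 using hcv
  have hne : ∀ (y : Y₁) (z : zgroup U), (z : G) • cv y • b ≠ a := fun y z e => hb
    (MulAction.injective (cv y) ((MulAction.injective (z : G)
      (e.trans (ua hS (mem_zgroup.1 z.2).1).symm)).trans (ua hS (hcv1 y)).symm))
  let f : Y₁ × zgroup U → {c : Ω // c ≠ a} := fun p => ⟨(p.2 : G) • cv p.1 • b, hne p.1 p.2⟩
  have hconj : ∀ (z : zgroup U) (y : Y₁), ((z : G) * cv y) * x * ((z : G) * cv y)⁻¹ = x * y := fun z y => by
    rw [show (z : G) * cv y * x * ((z : G) * cv y)⁻¹ = z * (cv y * x * (cv y)⁻¹) * (z : G)⁻¹ by group, hcv2,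
      ← ((mem_zgroup.1 z.2).2.2 _ (mul_mem hx.1 (yGroup_le y.2.1))).eq, mul_inv_cancel_right]
  have hf : Function.Injective f := by
    rintro ⟨y, z⟩ ⟨y', z'⟩ h
    have h' : ((z : G) * cv y) • b = ((z' : G) * cv y') • b := by
      rw [mul_smul, mul_smul]; exact congrArg Subtype.val h
    have hy : y = y' := Subtype.ext (mul_left_cancel (((hconj z y).symm.trans (conj_of_same hS hU hb hP hL hx hx1
      hall hinv (mul_mem (mem_zgroup.1 z'.2).1 (hcv1 y')) (mul_mem (mem_zgroup.1 z.2).1 (hcv1 y)) h')).trans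
      (hconj z' y')))
    subst hy
    refine Prod.ext rfl (Subtype.ext (inv_mul_eq_one.1 ?_).symm)
    refine zgroup_fix hS (b := cv y • b) (mul_mem (inv_mem z'.2) z.2)
      (fun e => hb (MulAction.injective (cv y) (e.trans (ua hS (hcv1 y)).symm))) ?_
    rw [mul_smul, ← mul_smul (z : G), h', mul_smul, inv_smul_smul]
  have hle : Nat.card {c : Ω // c ≠ a} ≤ Nat.card (Y₁ × zgroup U) := by
    have h1 := Nat.card_le_card_of_injective g hg
    rw [Nat.card_prod] at h1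
    rw [others_card hS hU hb hP, Nat.card_prod, pow_succ, pow_two]
    exact Nat.mul_le_mul_right _ h1
  obtain ⟨⟨y, z⟩, hyz⟩ := (hf.bijective_of_nat_card_le hle).2
    ⟨u • b, fun e => hb (MulAction.injective u (e.trans (ua hS hu).symm))⟩
  refine ⟨y, y.2.1, y.2.2, ?_⟩
  rw [← hconj z y]
  exact conj_of_same hS hU hb hP hL hx hx1 hall hinv (mul_mem (mem_zgroup.1 z.2).1 (hcv1 y)) hu
    (by rw [mul_smul]; exact (congrArg Subtype.val hyz).symm)

theorem ker_y_conj {u y : G} (hu : u ∈ U) (hy : y ∈ yGroup U b) (hy1 : lab y = 1) :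
    u * y * u⁻¹ ∈ yGroup U b ∧ lab (u * y * u⁻¹) = 1 := by
  obtain ⟨h1, -, h3⟩ := lab_x_mul hS hU hb hP hL hx hx1 hall hinv hy hy1
  obtain ⟨v, hv, e⟩ := conj_of_invol hS hU hb hP hL hx hx1 hall hinv (yGroup_le h1) (hinv y hy hy1) h3
  obtain ⟨y', hy', hl', e'⟩ := class_eq hS hU hb hP hL hx hx1 hall hinv hu
  obtain ⟨y'', hy'', hl'', e''⟩ := class_eq hS hU hb hP hL hx hx1 hall hinv (mul_mem hu hv)
  have hxY := wGroup_le_yGroup (ptGroup_le_wGroup hx)
  have hx2 := pt_sq hS hU hb hP hx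
  have e3 : u * y * u⁻¹ = x * y' * (x * y'') := by
    calc u * y * u⁻¹ = u * (x * (x * y)) * u⁻¹ := by rw [← mul_assoc x x, hx2, one_mul]
      _ = u * (x * (v * x * v⁻¹)) * u⁻¹ := by rw [e]
      _ = u * x * u⁻¹ * (u * v * x * (u * v)⁻¹) := by group
      _ = _ := by rw [e', e'']
  rw [e3]
  refine ⟨mul_mem (mul_mem hxY hy') (mul_mem hxY hy''), ?_⟩
  rw [hL.mul _ (mul_mem hxY hy') _ (mul_mem hxY hy''), hL.mul x hxY y' hy', hL.mul x hxY y'' hy'', hl', hl'',
    mul_one, hL.pt x hx, hx2]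

theorem y_normal {u y : G} (hu : u ∈ U) (hy : y ∈ yGroup U b) : u * y * u⁻¹ ∈ yGroup U b := by
  have hp := hL.mem y hy
  have hpY := wGroup_le_yGroup (ptGroup_le_wGroup hp)
  have h1 := (ker_y_conj hS hU hb hP hL hx hx1 hall hinv hu (mul_mem hy hpY) (by
    rw [hL.mul y hy _ hpY, hL.pt _ hp, pt_sq hS hU hb hP hp])).1
  have h2 : u * lab y * u⁻¹ ∈ yGroup U b := by
    rcases hall _ hp with e | e <;> rw [e]
    · rw [mul_one, mul_inv_cancel]; exact one_mem _
    · obtain ⟨y', hy', -, e'⟩ := class_eq hS hU hb hP hL hx hx1 hall hinv hu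
      rw [e']
      exact mul_mem (wGroup_le_yGroup (ptGroup_le_wGroup hx)) hy'
  have := mul_mem h1 h2
  rwa [show u * (y * lab y) * u⁻¹ * (u * lab y * u⁻¹) = u * (y * (lab y * lab y)) * u⁻¹ by group,
    pt_sq hS hU hb hP hp, mul_one] at this

theorem cls_ker {u : G} (hu : u ∈ U) (huY : u ∉ yGroup U b) :
    ∃ y ∈ yGroup U b, lab y = 1 ∧ y ∉ zgroup U ∧ u * x * u⁻¹ = x * y := by
  obtain ⟨y, hy, hy1, e⟩ := class_eq hS hU hb hP hL hx hx1 hall hinv hu
  refine ⟨y, hy, hy1, fun hz => huY (mem_y_of_conj hS hU hb hP hx hx1 hu ?_), e⟩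
  rw [e]
  exact mul_mem (ptGroup_le_wGroup hx) (zgroup_le_wGroup hz)

theorem comm_pt {d : G} (hda : d • a = a) (hdb : d • b = b) : ∀ p ∈ ptGroup U b, Commute d p := by
  intro p hp
  rcases hall p hp with e | e
  · rw [e]; exact Commute.one_right d
  rw [e]
  have hm : d * x * d⁻¹ ∈ ptGroup U b := Subgroup.mem_inf.2 ⟨hS.conj_mem d hda x hx.1, by
    have := fix_conj (g := d) (show x • b = b from hx.2)
    rw [hdb] at this
    exact this⟩
  exact mul_inv_eq_iff_eq_mul.1 ((hall _ hm).resolve_left (conj_ne_one hx1))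

/-- Squares lie in the kernel of the label. -/
theorem sq_mem_ker {u : G} (hu : u ∈ U) : u * u ∈ yGroup U b ∧ lab (u * u) = 1 := by
  classical
  have hxY := wGroup_le_yGroup (ptGroup_le_wGroup hx)
  have hx2 := pt_sq hS hU hb hP hx
  -- an element outside the normaliser with square inside
  obtain ⟨r₀, hr₀, hr₀Y, hr₀2⟩ : ∃ r₀ ∈ U, r₀ ∉ yGroup U b ∧ r₀ * r₀ ∈ yGroup U b := by
    obtain ⟨r, hr, hrY, -⟩ := exists_r hS hU hb hP
    obtain ⟨k, hk⟩ := two_elem hS hU hr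
    have hex : ∃ i, r ^ 2 ^ i ∈ yGroup U b := ⟨k, by rw [hk]; exact one_mem _⟩
    have hpos : Nat.find hex ≠ 0 := fun h0 => hrY (by
      have h := Nat.find_spec hex
      rwa [h0, pow_zero, pow_one] at h)
    obtain ⟨i, hi⟩ := Nat.exists_eq_succ_of_ne_zero hpos
    refine ⟨r ^ 2 ^ i, pow_mem hr _, Nat.find_min hex (by omega), ?_⟩
    have h := Nat.find_spec hex
    rwa [hi, pow_succ, pow_mul, pow_two] at h
  have hsq : ∀ u ∈ U, u * u ∈ yGroup U b := by
    intro u hu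
    by_cases huY : u ∈ yGroup U b
    · exact mul_mem huY huY
    obtain ⟨y₁, hy₁, hl₁, hz₁, e₁⟩ := cls_ker hS hU hb hP hL hx hx1 hall hinv hr₀ hr₀Y
    obtain ⟨y₂, hy₂, hl₂, hz₂, e₂⟩ := cls_ker hS hU hb hP hL hx hx1 hall hinv hu huY
    obtain ⟨d, hda, hdb, hdP, hd⟩ := kerLab_trans hS hU hb hP hL hy₁ hy₂ hl₁ hl₂ hz₁ hz₂
    set n := y₂⁻¹ * (d * y₁ * d⁻¹) with hn
    set v := d * r₀ * d⁻¹ with hv
    have hvU : v ∈ U := hS.conj_mem d hda r₀ hr₀
    have hv2 : v * v ∈ yGroup U b := by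
      rw [hv, show d * r₀ * d⁻¹ * (d * r₀ * d⁻¹) = d * (r₀ * r₀) * d⁻¹ by group]
      exact pair_conj_y hS hU hb hda hdb hr₀2
    have ev : v * x * v⁻¹ = u * x * u⁻¹ * n :=
      calc v * x * v⁻¹ = d * r₀ * (d⁻¹ * x * d) * r₀⁻¹ * d⁻¹ := by rw [hv]; group
        _ = d * (r₀ * x * r₀⁻¹) * d⁻¹ := by
            rw [mul_assoc d⁻¹ x, ← (hdP x hx).eq, inv_mul_cancel_left]; group
        _ = d * x * d⁻¹ * (d * y₁ * d⁻¹) := by rw [e₁]; group
        _ = x * (y₂ * n) := by rw [(hdP x hx).eq, mul_inv_cancel_right, hn, mul_inv_cancel_left]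
        _ = _ := by rw [e₂, mul_assoc]
    have hy : u⁻¹ * v ∈ yGroup U b := by
      refine mem_y_of_conj hS hU hb hP hx hx1 (mul_mem (inv_mem hu) hvU) ?_
      rw [show u⁻¹ * v * x * (u⁻¹ * v)⁻¹ = u⁻¹ * (v * x * v⁻¹) * u by group, ev,
        show u⁻¹ * (u * x * u⁻¹ * n) * u = x * (u⁻¹ * (n * u)) by group,
        ← ((mem_zgroup.1 hd).2.2 u hu).eq, inv_mul_cancel_left]
      exact mul_mem (ptGroup_le_wGroup hx) (zgroup_le_wGroup hd)
    set y := u⁻¹ * v
    rw [show u = v * y⁻¹ by rw [mul_inv_rev, inv_inv]; group,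
      show v * y⁻¹ * (v * y⁻¹) = v * v * (v⁻¹ * y⁻¹ * v⁻¹⁻¹) * y⁻¹ by group]
    exact mul_mem (mul_mem hv2 (y_normal hS hU hb hP hL hx hx1 hall hinv (inv_mem hvU) (inv_mem hy))) (inv_mem hy)
  refine ⟨hsq u hu, ?_⟩
  rcases hall _ (hL.mem _ (hsq u hu)) with e | e
  · exact e
  exfalso
  set j := u * u with hj
  have hjY := hsq u hu
  have hl : lab (x * j) = 1 := by rw [hL.mul x hxY j hjY, hL.pt x hx, e, hx2]
  have h2 := hinv (x * j) (mul_mem hxY hjY) hl
  rw [← mul_assoc x x, hx2, one_mul] at h2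
  have hjz : j ∉ zgroup U := fun h => hx1 (e.symm.trans (hL.central j h))
  have h1 : u * u = 1 := cent_sq hS hU hb hP (yGroup_le hjY) h2 hjz hu (by
    show u * j = j * u
    rw [hj, mul_assoc])
  rw [hj, h1, lab_one hS hU hb hP hL] at e
  exact hx1 e.symm

/-- The contradiction with simplicity. -/
theorem pt_false (hsim : IsSimpleGroup G) (hna : ¬ IsMulCommutative G) : False := by
  have hxY := wGroup_le_yGroup (ptGroup_le_wGroup hx)
  have hx2 := pt_sq hS hU hb hP hx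
  let Y₁ : Subgroup G :=
    { carrier := {y | y ∈ yGroup U b ∧ lab y = 1}
      one_mem' := ⟨one_mem _, lab_one hS hU hb hP hL⟩
      mul_mem' := fun {y y'} h h' => ⟨mul_mem h.1 h'.1, by rw [hL.mul y h.1 y' h'.1, h.2, h'.2, one_mul]⟩
      inv_mem' := fun {y} h => ⟨inv_mem h.1, (lab_inv hS hU hb hP hL h.1).trans h.2⟩ }
  have memY₁ : ∀ {y : G}, y ∈ Y₁ ↔ y ∈ yGroup U b ∧ lab y = 1 := Iff.rfl
  have hDP : ∀ {d : G}, d ∈ pairStab G a b → ∀ p ∈ ptGroup U b, Commute d p := fun hd =>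
    comm_pt hS hU hb hP hL hx hx1 hall hinv ((mem_pairStab hS).1 hd).1 ((mem_pairStab hS).1 hd).2
  have hKn : ∀ d ∈ pairStab G a b, ∀ k ∈ ptGroup U b, d * k * d⁻¹ ∈ ptGroup U b := fun d hd k hk => by
    rw [(hDP hd k hk).eq, mul_inv_cancel_right]; exact hk
  obtain ⟨F, hF, hFm, hFr, hFl, hFi⟩ := exists_average U Y₁ (pairStab G a b) (ptGroup U b) hKn
    (fun y hy n hn => ker_y_conj hS hU hb hP hL hx hx1 hall hinv hy hn.1 hn.2)
    (fun y hy => sq_mem_ker hS hU hb hP hL hx hx1 hall hinv hy)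
    (fun d hd y hy => hS.conj_mem d ((mem_pairStab hS).1 hd).1 y hy)
    (fun d hd n hn => by
      obtain ⟨h1, h2⟩ := (mem_pairStab hS).1 hd
      exact memY₁.2 ⟨pair_conj_y hS hU hb h1 h2 hn.1, (hL.inv d h1 h2 (hDP hd) n hn.1).trans hn.2⟩)
    (fun k hk y hy => by
      rcases hall k hk with rfl | rfl
      · rw [one_mul, inv_one, mul_one, inv_mul_cancel]; exact one_mem _
      · obtain ⟨y', hy', hl', e'⟩ := class_eq hS hU hb hP hL hx hx1 hall hinv (inv_mem hy)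
        rw [inv_inv] at e'
        have h1 : y⁻¹ * (k * y * k⁻¹) = k * y' * k := by
          rw [← mul_assoc, ← mul_assoc, e', inv_eq_of_mul_eq_one_right hx2]
        rw [h1, memY₁]
        refine ⟨mul_mem (mul_mem hxY hy') hxY, ?_⟩
        rw [hL.mul _ (mul_mem hxY hy') k hxY, hL.mul k hxY y' hy', hl', mul_one, hL.pt k hx, hx2])
    (odd_pair_index hS hU hb le_rfl hKn)
  have hFY : ∀ v ∈ U, F v ∈ yGroup U b := fun v hv => by
    by_contra hY
    obtain ⟨y₁, hy₁, hl₁, hz₁, e₁⟩ := cls_ker hS hU hb hP hL hx hx1 hall hinv (hF v hv) hY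
    obtain ⟨z, hz, e⟩ := exists_mu hS hU hb hP hy₁ (fun hw => hz₁ (kerLab_w hS hU hb hP hL hw hl₁)) hx hx1
    obtain ⟨d, hda, hdb, hdP, hd⟩ := not_fixed hS hU hb hP hy₁ hx hz e
    refine hd ?_
    obtain ⟨hnY, -⟩ := hFl d ((mem_pairStab hS).2 ⟨hda, hdb⟩) v hv
    set n := (F v)⁻¹ * (d * F v * d⁻¹) with hn
    have hc := bc hS hU hb hP hnY hx
    have hxy : x * (d * y₁ * d⁻¹) = (n * x * n⁻¹ * x) * (x * y₁) :=
      calc x * (d * y₁ * d⁻¹) = d * x * d⁻¹ * (d * y₁ * d⁻¹) := by rw [(hdP x hx).eq, mul_inv_cancel_right]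
        _ = d * (F v * x * (F v)⁻¹) * d⁻¹ := by rw [e₁]; group
        _ = (d * F v * d⁻¹) * (d * x * d⁻¹) * (d * F v * d⁻¹)⁻¹ := by group
        _ = F v * ((n * x * n⁻¹ * x) * x) * (F v)⁻¹ := by
            rw [(hdP x hx).eq, mul_inv_cancel_right, mul_assoc (n * x * n⁻¹) x x, hx2, mul_one, hn]; group
        _ = (n * x * n⁻¹ * x) * (F v * x * (F v)⁻¹) := by
            rw [← mul_assoc (F v), ((mem_zgroup.1 hc).2.2 _ (hF v hv)).eq]; group
        _ = _ := by rw [e₁]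
    have h2 : d * y₁ * d⁻¹ = (n * x * n⁻¹ * x) * y₁ := by
      apply mul_left_cancel (a := x)
      rw [hxy, ← mul_assoc, ← ((mem_zgroup.1 hc).2.2 x hx.1).eq, mul_assoc]
    rw [h2, ← ((mem_zgroup.1 hc).2.2 y₁ (yGroup_le hy₁)).eq, inv_mul_cancel_left]
    exact zgroup_le_wGroup hc
  have eq_lab : ∀ {u v : G}, u ∈ yGroup U b → v ∈ yGroup U b → u⁻¹ * v ∈ Y₁ → lab u = lab v := fun hu hv h => by
    have h' := h.2
    rw [hL.mul _ (inv_mem hu) _ hv, lab_inv hS hU hb hP hL hu, mul_eq_one_iff_eq_inv,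
      inv_eq_of_mul_eq_one_right (pt_sq hS hU hb hP (hL.mem _ hv))] at h'
    exact h'
  set χ := fun v => lab (F v) with hχ
  have χmul : ∀ v ∈ U, ∀ w ∈ U, χ (v * w) = χ v * χ w := fun v hv w hw => by
    rw [hχ]
    simp only
    rw [← hL.mul _ (hFY v hv) _ (hFY w hw)]
    exact eq_lab (hFY _ (mul_mem hv hw)) (mul_mem (hFY v hv) (hFY w hw)) (hFm v hv w hw)
  have χone : χ 1 = 1 := by
    have h := χmul 1 (one_mem _) 1 (one_mem _)
    rw [mul_one] at h
    exact (left_eq_mul.1 h)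
  have χinv : ∀ v ∈ U, χ v⁻¹ = χ v := fun v hv => by
    have h := χmul v hv v⁻¹ (inv_mem hv)
    rw [mul_inv_cancel, χone] at h
    rw [← inv_eq_of_mul_eq_one_right h.symm,
      inv_eq_of_mul_eq_one_right (pt_sq hS hU hb hP (hL.mem _ (hFY v hv)))]
  let M : Subgroup G :=
    { carrier := {v | v ∈ U ∧ χ v = 1}
      one_mem' := ⟨one_mem _, χone⟩
      mul_mem' := fun {v w} h h' => ⟨mul_mem h.1 h'.1, by rw [χmul v h.1 w h'.1, h.2, h'.2, one_mul]⟩
      inv_mem' := fun {v} h => ⟨inv_mem h.1, (χinv v h.1).trans h.2⟩ }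
  have hUM : U ≤ M := focal_le hS hU hsim hna fun v hv g hg => by
    have hgU : g * v * g⁻¹ ∈ U := hS.conj_mem g hg v hv
    refine ⟨mul_mem (inv_mem hv) hgU, ?_⟩
    obtain ⟨u, hu, e⟩ := hS.trans b (g • b) hb fun h => hb (MulAction.injective g (h.trans hg.symm))
    set d := u⁻¹ * g with hd
    have hdm : d ∈ pairStab G a b := (mem_pairStab hS).2
      ⟨by rw [hd, mul_smul, hg]; exact inv_smul_eq_iff.2 (ua hS hu).symm,
       by rw [hd, mul_smul, ← e, inv_smul_smul]⟩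
    have hdv : d * v * d⁻¹ ∈ U := hS.conj_mem d ((mem_pairStab hS).1 hdm).1 v hv
    have h1 : χ (d * v * d⁻¹) = χ v := eq_lab (hFY _ hdv) (hFY v hv) (hFr d hdm v hv)
    rw [χmul _ (inv_mem hv) _ hgU, χinv v hv, show g * v * g⁻¹ = u * (d * v * d⁻¹) * u⁻¹ by rw [hd]; group,
      χmul _ (mul_mem hu hdv) _ (inv_mem hu), χmul u hu _ hdv, χinv u hu, h1,
      (pt_comm hS hU hb hP (hL.mem _ (hFY u hu)) (hL.mem _ (hFY v hv))).eq,
      mul_assoc (χ v) (χ u), pt_sq hS hU hb hP (hL.mem _ (hFY u hu)), mul_one]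
    exact pt_sq hS hU hb hP (hL.mem _ (hFY v hv))
  have hxM := (hUM hx.1).2
  have h1 : (F x)⁻¹ * x ∈ Y₁ := hFi x hx.1 fun d hd => by
    rw [(hDP hd x hx).eq, mul_inv_cancel_right, inv_mul_cancel]; exact one_mem _
  have h2 := eq_lab (hFY x hx.1) hxY h1
  rw [hL.pt x hx] at h2
  exact hx1 (h2.symm.trans hxM)

end Facts

/-- In a simple group the 2-group `U` is regular on the other points. -/
theorem ptGroup_eq_bot [Finite G] {a b : Ω} {U : Subgroup G} (hS : Split G Ω a U) (hU : IsPGroup 2 U)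
    (hsim : IsSimpleGroup G) (hna : ¬ IsMulCommutative G) (hb : b ≠ a) : ptGroup U b = ⊥ := by
  by_contra hP
  obtain ⟨lab, hL⟩ := exists_label hS hU hb hP
  obtain ⟨x, hx, hx1, hall, hinv⟩ := order_two hS hU hb hP hL
  exact pt_false hS hU hb hP hL hx hx1 hall hinv hsim hna

end Cfsg.Lib.SplitRankOne
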