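import Cfsg.Agent.SplitRankOne.Invol

/-!
A nontrivial stabiliser of a second point in the 2-group: it is elementary, and its normaliser moves it by the
central involutions alone.
-/

set_option autoImplicit false
set_option linter.unusedSectionVars false
set_option linter.style.haveILetI false

namespace Cfsg.Lib.SplitRankOne

open MulAction

universe u v

variable {G : Type u} {Ω : Type v} [Group G] [MulAction G Ω]

/-- The stabiliser of `b` in `U`. -/
abbrev ptGroup (U : Subgroup G) (b : Ω) : Subgroup G := U ⊓ stabilizer G b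

/-- Its product with the central subgroup. -/
def wGroup (U : Subgroup G) (b : Ω) : Subgroup G where
  carrier := {w | ∃ z ∈ zgroup U, ∃ p ∈ ptGroup U b, z * p = w}
  one_mem' := ⟨1, one_mem _, 1, one_mem _, one_mul 1⟩
  mul_mem' := by
    rintro _ _ ⟨z, hz, p, hp, rfl⟩ ⟨z', hz', p', hp', rfl⟩
    refine ⟨z * z', mul_mem hz hz', p * p', mul_mem hp hp', ?_⟩
    rw [show z * p * (z' * p') = z * (p * z') * p' by group, ((mem_zgroup.1 hz').2.2 p hp.1).eq]
    group
  inv_mem' := by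
    rintro _ ⟨z, hz, p, hp, rfl⟩
    refine ⟨z⁻¹, inv_mem hz, p⁻¹, inv_mem hp, ?_⟩
    rw [mul_inv_rev, ((mem_zgroup.1 (inv_mem hz)).2.2 p⁻¹ (inv_mem hp.1)).eq]

/-- The normaliser of that product in `U`. -/
def yGroup (U : Subgroup G) (b : Ω) : Subgroup G := U ⊓ Subgroup.normalizer (wGroup U b : Set G)

theorem zgroup_le_wGroup {U : Subgroup G} {b : Ω} : zgroup U ≤ wGroup U b :=
  fun z hz => ⟨z, hz, 1, one_mem _, mul_one z⟩

theorem ptGroup_le_wGroup {U : Subgroup G} {b : Ω} : ptGroup U b ≤ wGroup U b :=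
  fun p hp => ⟨1, one_mem _, p, hp, one_mul p⟩

theorem wGroup_le {U : Subgroup G} {b : Ω} : wGroup U b ≤ U := by
  rintro _ ⟨z, hz, p, hp, rfl⟩
  exact mul_mem (mem_zgroup.1 hz).1 hp.1

theorem wGroup_le_yGroup {U : Subgroup G} {b : Ω} : wGroup U b ≤ yGroup U b :=
  le_inf wGroup_le Subgroup.le_normalizer

theorem yGroup_le {U : Subgroup G} {b : Ω} : yGroup U b ≤ U := inf_le_left

theorem yGroup_conj {U : Subgroup G} {b : Ω} {y w : G} (hy : y ∈ yGroup U b) (hw : w ∈ wGroup U b) :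
    y * w * y⁻¹ ∈ wGroup U b :=
  (Subgroup.mem_normalizer_iff.1 (Subgroup.mem_inf.1 hy).2 w).1 hw

section Facts

variable [Finite G] {a b : Ω} {U : Subgroup G} (hS : Split G Ω a U)
include hS

theorem zgroup_fix {z : G} (hz : z ∈ zgroup U) (hb : b ≠ a) (h : z • b = b) : z = 1 :=
  ((zgroup_iff hS).1 hz).resolve_right fun h' => hb (cpt_only hS h' h)

theorem zgroup_conj {g z : G} (hg : g • a = a) (hz : z ∈ zgroup U) : g * z * g⁻¹ ∈ zgroup U := by
  rw [zgroup_iff hS] at hz ⊢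
  rcases hz with rfl | hz
  · exact Or.inl (by group)
  · have := cpt_conj hS hz g
    rw [hg] at this
    exact Or.inr this

theorem wGroup_unique (hb : b ≠ a) {z z' p p' : G} (hz : z ∈ zgroup U) (hz' : z' ∈ zgroup U)
    (hp : p ∈ ptGroup U b) (hp' : p' ∈ ptGroup U b) (h : z * p = z' * p') : z = z' ∧ p = p' := by
  have e : z'⁻¹ * z = p' * p⁻¹ := by rw [eq_mul_inv_iff_mul_eq, mul_assoc, h, inv_mul_cancel_left]
  have h1 : z'⁻¹ * z = 1 := zgroup_fix hS (mul_mem (inv_mem hz') hz) hb (by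
    rw [e]
    exact (mul_mem hp' (inv_mem hp)).2)
  refine ⟨(inv_mul_eq_one.1 h1).symm, ?_⟩
  rw [h1] at e
  exact (mul_inv_eq_one.1 e.symm).symm

theorem pt_not_z (hb : b ≠ a) {p : G} (hp : p ∈ ptGroup U b) (hp1 : p ≠ 1) : p ∉ zgroup U :=
  fun h => hp1 (zgroup_fix hS h hb hp.2)

theorem pt_not_cpt (hb : b ≠ a) {p : G} (hp : p ∈ ptGroup U b) : p ∉ cpt a U a :=
  fun h => hb (cpt_only hS h hp.2)

theorem ua {u : G} (hu : u ∈ U) : u • a = a := hS.le hu

variable (hU : IsPGroup 2 U) (hb : b ≠ a)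
include hU hb

/-- The fixed points of an involution of the stabiliser. -/
theorem invol_fix {x : G} (hx : x ∈ ptGroup U b) (hx2 : x * x = 1) (hx1 : x ≠ 1) {c : Ω} (hc : x • c = c) :
    c = a ∨ ∃ z ∈ zgroup U, z • b = c := by
  classical
  haveI := finite_pts hS
  have hxa : x • a = a := hS.le hx.1
  have hxb : x • b = b := hx.2
  have hcard := (fix_numbers hS hU hx2 hx1 hxa (pt_not_cpt hS hb hx)).1
  have hz : ∀ z : zgroup U, x • (z : G) • b = (z : G) • b := fun z =>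
    fix_comm ((mem_zgroup.1 z.2).2.2 x hx.1) hxb
  let f : Option (zgroup U) → {c : Ω // x • c = c} := fun o => o.elim ⟨a, hxa⟩ fun z => ⟨(z : G) • b, hz z⟩
  have hne : ∀ z : zgroup U, (z : G) • b ≠ a := fun z e =>
    hb (MulAction.injective (z : G) (e.trans (ua hS (mem_zgroup.1 z.2).1).symm))
  have hf : Function.Injective f := by
    intro y z e
    rcases y with _ | y <;> rcases z with _ | z
    · rfl
    · exact absurd (congrArg Subtype.val e).symm (hne z)
    · exact absurd (congrArg Subtype.val e) (hne y)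
    · have e' : (y : G) • b = (z : G) • b := congrArg Subtype.val e
      refine congrArg some (Subtype.ext (inv_mul_eq_one.1 ?_).symm)
      exact zgroup_fix hS (mul_mem (inv_mem z.2) y.2) hb (by rw [mul_smul, e', inv_smul_smul])
  obtain ⟨o, ho⟩ := (hf.bijective_of_nat_card_le (by rw [hcard, Finite.card_option])).2 ⟨c, hc⟩
  rcases o with _ | z
  · exact Or.inl (congrArg Subtype.val ho).symm
  · exact Or.inr ⟨z, z.2, congrArg Subtype.val ho⟩

/-- A nontrivial element of the stabiliser fixes only the points moved to by its product with the centre. -/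
theorem tame {p u : G} (hp : p ∈ ptGroup U b) (hp1 : p ≠ 1) (hu : u ∈ U) (h : p • u • b = u • b) :
    u ∈ wGroup U b := by
  haveI := Fact.mk Nat.prime_two
  have hev : 2 ∣ orderOf p := by
    obtain ⟨k, hk⟩ := hU ⟨p, hp.1⟩
    obtain ⟨i, -, hi⟩ := (Nat.dvd_prime_pow Nat.prime_two).1
      (orderOf_dvd_of_pow_eq_one (show p ^ 2 ^ k = 1 from congrArg Subtype.val hk))
    rw [hi]
    refine dvd_pow_self 2 fun h0 => hp1 ?_
    rw [← orderOf_eq_one_iff, hi, h0, pow_zero]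
  have ho : orderOf (p ^ (orderOf p / 2)) = 2 := orderOf_pow_orderOf_div (orderOf_pos p).ne' hev
  have hfix : p ^ (orderOf p / 2) • u • b = u • b := (stabilizer G (u • b)).pow_mem h _
  rcases invol_fix hS hU hb (pow_mem hp _) (Cfsg.Lib.InvolCalc.sq_of_order_two ho)
    (Cfsg.Lib.InvolCalc.ne_one_of_order_two ho) hfix with e | ⟨z, hz, e⟩
  · exact absurd (MulAction.injective u (e.trans (ua hS hu).symm)) hb
  · exact ⟨z, hz, z⁻¹ * u, Subgroup.mem_inf.2 ⟨mul_mem (inv_mem (mem_zgroup.1 hz).1) hu,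
      show (z⁻¹ * u) • b = b by rw [mul_smul, ← e, inv_smul_smul]⟩, mul_inv_cancel_left z u⟩

theorem tame_conj {p u : G} (hp : p ∈ ptGroup U b) (hp1 : p ≠ 1) (hu : u ∈ U)
    (h : u * p * u⁻¹ ∈ ptGroup U b) : u ∈ wGroup U b := by
  have h1 : p • u⁻¹ • b = u⁻¹ • b := by
    have h' : (u * p * u⁻¹) • b = b := h.2
    rwa [mul_smul, mul_smul, smul_eq_iff_eq_inv_smul] at h'
  simpa using inv_mem (tame hS hU hb hp hp1 (inv_mem hu) h1)

variable (hP : ptGroup U b ≠ ⊥)
include hP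

theorem exists_pt_invol : ∃ x ∈ ptGroup U b, x ≠ 1 ∧ x * x = 1 := by
  haveI := Fact.mk Nat.prime_two
  have hp : IsPGroup 2 (ptGroup U b) := hU.to_le inf_le_left
  haveI : Nontrivial (ptGroup U b) := (Subgroup.nontrivial_iff_ne_bot _).2 hP
  obtain ⟨k, hk, hc⟩ := hp.nontrivial_iff_card.1 ‹_›
  obtain ⟨x, hx⟩ := exists_prime_orderOf_dvd_card' (G := ptGroup U b) 2 (hc ▸ dvd_pow_self 2 hk.ne')
  rw [← Subgroup.orderOf_coe] at hx
  exact ⟨x, x.2, Cfsg.Lib.InvolCalc.ne_one_of_order_two hx, Cfsg.Lib.InvolCalc.sq_of_order_two hx⟩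

theorem others_card : Nat.card {c : Ω // c ≠ a} = Nat.card (zgroup U) ^ 3 := by
  obtain ⟨x, hx, hx1, hx2⟩ := exists_pt_invol hS hU hb hP
  exact (fix_numbers hS hU hx2 hx1 (ua hS hx.1) (pt_not_cpt hS hb hx)).2

theorem exists_y : ∃ y ∈ yGroup U b, y ∉ wGroup U b := by
  haveI := hS.nilpotent
  haveI := finite_pts hS
  have hne : (wGroup U b).subgroupOf U < ⊤ := lt_top_iff_ne_top.2 fun h => by
    have hle : U ≤ wGroup U b := Subgroup.subgroupOf_eq_top.1 h
    have hsurj : Function.Surjective fun z : zgroup U => (⟨(z : G) • b, fun e =>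
        hb (MulAction.injective (z : G) (e.trans (ua hS (mem_zgroup.1 z.2).1).symm))⟩ : {c : Ω // c ≠ a}) := by
      rintro ⟨c, hc⟩
      obtain ⟨u, hu, e⟩ := hS.trans b c hb hc
      obtain ⟨z, hz, p, hp, rfl⟩ := hle hu
      refine ⟨⟨z, hz⟩, Subtype.ext ?_⟩
      show z • b = c
      rw [← e, mul_smul, show p • b = b from hp.2]
    have h1 := Nat.card_le_card_of_surjective _ hsurj
    rw [others_card hS hU hb hP] at h1
    have hq : 2 ≤ Nat.card (zgroup U) := by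
      rw [card_zgroup hS]
      obtain ⟨z, hz, -⟩ := exists_cpt hS a
      haveI : Nonempty (cpt a U a) := ⟨⟨z, hz⟩⟩
      have := Nat.card_pos (α := cpt a U a)
      omega
    exact absurd h1 (Nat.not_le.2 (lt_self_pow₀ hq (by norm_num)))
  obtain ⟨⟨y, hyU⟩, hy, hy'⟩ := SetLike.exists_of_lt (Group.normalizerCondition_of_isNilpotent _ hne)
  refine ⟨y, Subgroup.mem_inf.2 ⟨hyU, ?_⟩, hy'⟩
  haveI : Finite (wGroup U b : Set G) := Subtype.finite
  exact Subgroup.mem_normalizer_fintype fun w hw =>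
    (Subgroup.mem_normalizer_iff.1 hy ⟨w, wGroup_le hw⟩).1 hw

theorem pt_sq {p : G} (hp : p ∈ ptGroup U b) : p * p = 1 := by
  obtain ⟨y, hy, hyW⟩ := exists_y hS hU hb hP
  by_contra h
  obtain ⟨z, hz, π, hπ, e⟩ := yGroup_conj hy (ptGroup_le_wGroup hp)
  refine hyW (tame_conj hS hU hb (mul_mem hp hp) h (yGroup_le hy) ?_)
  rw [show y * (p * p) * y⁻¹ = y * p * y⁻¹ * (y * p * y⁻¹) by group, ← e,
    show z * π * (z * π) = z * (π * z) * π by group, ((mem_zgroup.1 hz).2.2 π hπ.1).eq,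
    show z * (z * π) * π = z * z * (π * π) by group, (mem_zgroup.1 hz).2.1, one_mul]
  exact mul_mem hπ hπ

theorem pt_comm {p p' : G} (hp : p ∈ ptGroup U b) (hp' : p' ∈ ptGroup U b) : Commute p p' := by
  have h := pt_sq hS hU hb hP (mul_mem hp hp')
  rw [mul_eq_one_iff_eq_inv, mul_inv_rev, inv_eq_of_mul_eq_one_right (pt_sq hS hU hb hP hp),
    inv_eq_of_mul_eq_one_right (pt_sq hS hU hb hP hp')] at h
  exact h

theorem w_comm {w w' : G} (hw : w ∈ wGroup U b) (hw' : w' ∈ wGroup U b) : Commute w w' := by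
  obtain ⟨z, hz, p, hp, rfl⟩ := hw
  obtain ⟨z', hz', p', hp', rfl⟩ := hw'
  have c1 : Commute z z' := (mem_zgroup.1 hz').2.2 z (mem_zgroup.1 hz).1
  have c2 : Commute z p' := ((mem_zgroup.1 hz).2.2 p' hp'.1).symm
  have c3 : Commute p z' := (mem_zgroup.1 hz').2.2 p hp.1
  exact (c1.mul_right c2).mul_left (c3.mul_right (pt_comm hS hU hb hP hp hp'))

theorem w_sq {w : G} (hw : w ∈ wGroup U b) : w * w = 1 := by
  obtain ⟨z, hz, p, hp, rfl⟩ := hw
  exact commute_sq (mem_zgroup.1 hz).2.1 (pt_sq hS hU hb hP hp) ((mem_zgroup.1 hz).2.2 p hp.1).symm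

/-- The centraliser in `U` of an involution of the stabiliser. -/
theorem cent_pt {p u : G} (hp : p ∈ ptGroup U b) (hp1 : p ≠ 1) (hu : u ∈ U) (h : Commute u p) :
    u ∈ wGroup U b :=
  tame hS hU hb hp hp1 hu (fix_comm h.symm hp.2)

theorem cent_w {w u : G} (hw : w ∈ wGroup U b) (hwz : w ∉ zgroup U) (hu : u ∈ U) (h : Commute u w) :
    u ∈ wGroup U b := by
  obtain ⟨z, hz, p, hp, rfl⟩ := hw
  refine cent_pt hS hU hb hP hp (fun e => hwz (by rwa [e, mul_one])) hu ?_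
  have := ((mem_zgroup.1 hz).2.2 u hu).inv_right.mul_right h
  rwa [inv_mul_cancel_left] at this

/-- Elements commuting with an involution outside the centre square to one. -/
theorem cent_sq {j v : G} (hj : j ∈ U) (hj2 : j * j = 1) (hjz : j ∉ zgroup U) (hv : v ∈ U) (h : Commute v j) :
    v * v = 1 := by
  have hj1 : j ≠ 1 := fun e => hjz (e ▸ one_mem _)
  obtain ⟨c, hca, hc⟩ := fix_two hS hj2 hj1 (ua hS hj) fun h' => hjz ((zgroup_iff hS).2 (Or.inr h'))
  obtain ⟨u, hu, rfl⟩ := hS.trans b c hb hca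
  have hp : u⁻¹ * j * u ∈ ptGroup U b := Subgroup.mem_inf.2 ⟨mul_mem (mul_mem (inv_mem hu) hj) hu,
    show (u⁻¹ * j * u) • b = b by rw [mul_smul, mul_smul, hc, inv_smul_smul]⟩
  have hp1 : u⁻¹ * j * u ≠ 1 := fun e => hj1 (by
    rw [show u⁻¹ * j * u = u⁻¹ * j * u⁻¹⁻¹ by group] at e
    exact conj_eq_one_iff.1 e)
  have hw := w_sq hS hU hb hP (cent_pt hS hU hb hP hp hp1 (mul_mem (mul_mem (inv_mem hu) hv) hu) (by
    have := (Commute.conj_iff u⁻¹).2 h
    rwa [inv_inv] at this))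
  rw [show u⁻¹ * v * u * (u⁻¹ * v * u) = u⁻¹ * (v * v) * u⁻¹⁻¹ by group] at hw
  exact conj_eq_one_iff.1 hw

/-- An element of `U` moving an involution of the stabiliser into the product normalises the product. -/
theorem mem_y_of_conj {p r : G} (hp : p ∈ ptGroup U b) (hp1 : p ≠ 1) (hr : r ∈ U)
    (h : r * p * r⁻¹ ∈ wGroup U b) : r ∈ yGroup U b := by
  refine Subgroup.mem_inf.2 ⟨hr, ?_⟩
  have hnz : r * p * r⁻¹ ∉ zgroup U := fun h' => pt_not_z hS hb hp hp1 (by
    have := zgroup_conj hS (g := r⁻¹) (inv_smul_eq_iff.2 (ua hS hr).symm) h'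
    rwa [inv_inv, show r⁻¹ * (r * p * r⁻¹) * r = p by group] at this)
  haveI : Finite (wGroup U b : Set G) := Subtype.finite
  exact Subgroup.mem_normalizer_fintype fun w hw =>
    cent_w hS hU hb hP h hnz (mul_mem (mul_mem hr (wGroup_le hw)) (inv_mem hr))
      ((Commute.conj_iff r).2 (w_comm hS hU hb hP hw (ptGroup_le_wGroup hp)))

omit hP

/-- Elements fixing both points and centralising the stabiliser normalise everything. -/
theorem pair_conj {d : G} (hda : d • a = a) (hdb : d • b = b) {w : G} (hw : w ∈ wGroup U b) :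
    d * w * d⁻¹ ∈ wGroup U b := by
  obtain ⟨z, hz, p, hp, rfl⟩ := hw
  refine ⟨d * z * d⁻¹, zgroup_conj hS hda hz, d * p * d⁻¹, ⟨hS.conj_mem d hda p hp.1, ?_⟩, by group⟩
  have := fix_conj (g := d) (show p • b = b from hp.2)
  rw [hdb] at this
  exact this

theorem pair_conj_y {d : G} (hda : d • a = a) (hdb : d • b = b) {y : G} (hy : y ∈ yGroup U b) :
    d * y * d⁻¹ ∈ yGroup U b := by
  refine Subgroup.mem_inf.2 ⟨hS.conj_mem d hda y (yGroup_le hy), ?_⟩
  haveI : Finite (wGroup U b : Set G) := Subtype.finite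
  refine Subgroup.mem_normalizer_fintype fun w hw => ?_
  have h1 := pair_conj hS hU hb (d := d⁻¹) (inv_smul_eq_iff.2 hda.symm) (inv_smul_eq_iff.2 hdb.symm) hw
  have h2 := pair_conj hS hU hb hda hdb (yGroup_conj hy h1)
  rwa [show d * (y * (d⁻¹ * w * d⁻¹⁻¹) * y⁻¹) * d⁻¹ = d * y * d⁻¹ * w * (d * y * d⁻¹)⁻¹ by group] at h2

/-- The transitive part commutes with the stabiliser. -/
theorem exists_mover {z z' : G} (hz : z ∈ cpt a U a) (hz' : z' ∈ cpt a U a) :
    ∃ d : G, d • a = a ∧ d • b = b ∧ d * z * d⁻¹ = z' ∧ ∀ p ∈ ptGroup U b, Commute d p := by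
  obtain ⟨d, hda, hdb, hd, hcom⟩ := pair_trans hS hb.symm hz hz'
  refine ⟨d, hda, hdb, hd, fun p hp => (hcom p (fun y hy => cpt_U hS hy hp.1) fun y hy => ?_).symm⟩
  obtain ⟨k, hk⟩ := hU ⟨p, hp.1⟩
  exact (cpt_comm hS hy hp.2 (k := k) (congrArg Subtype.val hk)).symm

include hP

/-- For `y` outside the product, some `x z` fixes `y b`. -/
theorem exists_mu {y x : G} (hy : y ∈ yGroup U b) (hyW : y ∉ wGroup U b) (hx : x ∈ ptGroup U b) (hx1 : x ≠ 1) :
    ∃ z ∈ cpt a U a, (x * z) • y • b = y • b := by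
  classical
  have key : ∀ p : ptGroup U b, ∃ π : ptGroup U b, ∃ z ∈ zgroup U, z * (π : G) = y * p * y⁻¹ := fun p => by
    obtain ⟨z, hz, π, hπ, e⟩ := yGroup_conj hy (ptGroup_le_wGroup p.2)
    exact ⟨⟨π, hπ⟩, z, hz, e⟩
  choose f z hz hf using key
  have hinj : Function.Injective f := fun p q h => by
    have h1 : y * ((p : G) * (q : G)⁻¹) * y⁻¹ ∈ zgroup U := by
      rw [show y * ((p : G) * (q : G)⁻¹) * y⁻¹ = y * p * y⁻¹ * (y * q * y⁻¹)⁻¹ by group]
      have e2 := hf q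
      rw [← e2]
      have e3 : y * p * y⁻¹ = z p * (f q : G) := by rw [← hf p, h]
      rw [e3, show z p * (f q : G) * (z q * (f q : G))⁻¹ = z p * (z q)⁻¹ by group]
      exact mul_mem (hz p) (inv_mem (hz q))
    by_contra hne
    refine pt_not_z hS hb (mul_mem p.2 (inv_mem q.2)) (fun e => hne (Subtype.ext (mul_inv_eq_one.1 e))) ?_
    have := zgroup_conj hS (g := y⁻¹) (inv_smul_eq_iff.2 (ua hS (yGroup_le hy)).symm) h1
    rwa [inv_inv, show y⁻¹ * (y * ((p : G) * (q : G)⁻¹) * y⁻¹) * y = (p : G) * (q : G)⁻¹ by group] at this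
  obtain ⟨p, hp⟩ := Finite.surjective_of_injective hinj ⟨x, hx⟩
  have e := hf p
  rw [hp] at e
  have hfix : (z p * x) • y • b = y • b := by
    rw [e, mul_smul, mul_smul, inv_smul_smul, show (p : G) • b = b from p.2.2]
  rcases (zgroup_iff hS).1 (hz p) with h1 | h1
  · exact absurd (tame hS hU hb hx hx1 (yGroup_le hy) (by rwa [h1, one_mul] at hfix)) hyW
  · exact ⟨z p, h1, by rwa [(cpt_U hS h1 hx.1).eq]⟩

theorem mu_unique {y x z z' w : G} (hy : y ∈ yGroup U b) (hw : w ∈ wGroup U b) (hx : x ∈ ptGroup U b)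
    (hz : z ∈ cpt a U a) (hz' : z' ∈ cpt a U a) (h : (x * z) • y • b = y • b)
    (h' : (x * z') • (y * w) • b = (y * w) • b) : z = z' := by
  obtain ⟨z₀, hz₀, p, hp, rfl⟩ := hw
  have e : (y * (z₀ * p)) • b = z₀ • y • b := by
    rw [← mul_assoc, ((mem_zgroup.1 hz₀).2.2 y (yGroup_le hy)).eq, mul_smul, mul_smul,
      show p • b = b from hp.2]
  have hcm : Commute (x * z') z₀ :=
    (mem_zgroup.1 hz₀).2.2 _ (mul_mem hx.1 ((cpt_self hS).1 hz').1)
  rw [e, smul_smul (x * z') z₀, hcm.eq, ← smul_smul] at h'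
  have h1 : (x * z') • y • b = y • b := MulAction.injective z₀ h'
  by_contra hne
  refine hb (MulAction.injective y ?_)
  show y • b = y • a
  rw [ua hS (yGroup_le hy)]
  refine cpt_only hS (cpt_mul hS hz hz' hne) ?_
  calc (z * z') • y • b = ((x * x) * (z * z')) • y • b := by rw [pt_sq hS hU hb hP hx, one_mul]
    _ = ((x * z) * (x * z')) • y • b := by
        rw [show x * z * (x * z') = x * (z * x) * z' by group, ← (cpt_U hS hz hx.1).eq]
        group
    _ = y • b := by rw [mul_smul, h1, h]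

/-- Two elements with the same value lie in one coset. -/
theorem mu_inj {y y' x z : G} (hy : y ∈ yGroup U b) (hy' : y' ∈ yGroup U b) (hx : x ∈ ptGroup U b) (hx1 : x ≠ 1)
    (hz : z ∈ cpt a U a) (h : (x * z) • y • b = y • b) (h' : (x * z) • y' • b = y' • b) :
    y⁻¹ * y' ∈ wGroup U b := by
  have hyU := yGroup_le hy
  refine tame hS hU hb (p := y⁻¹ * (x * z) * y)
    (Subgroup.mem_inf.2 ⟨mul_mem (mul_mem (inv_mem hyU) (mul_mem hx.1 ((cpt_self hS).1 hz).1)) hyU, ?_⟩) (fun e => ?_)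
    (mul_mem (inv_mem hyU) (yGroup_le hy')) ?_
  · show (y⁻¹ * (x * z) * y) • b = b
    rw [mul_smul, mul_smul, h, inv_smul_smul]
  · have e' : x * z = 1 := by
      rw [show y⁻¹ * (x * z) * y = y⁻¹ * (x * z) * y⁻¹⁻¹ by group] at e
      exact conj_eq_one_iff.1 e
    rw [mul_eq_one_iff_eq_inv, cpt_inv hS hz] at e'
    exact pt_not_cpt hS hb hx (e' ▸ hz)
  · rw [← mul_smul, show y⁻¹ * (x * z) * y * (y⁻¹ * y') = y⁻¹ * ((x * z) * y') by group, mul_smul, mul_smul,
      h', ← mul_smul]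

theorem mu_move {d y x z : G} (hdb : d • b = b) (hdx : Commute d x)
    (h : (x * z) • y • b = y • b) :
    (x * (d * z * d⁻¹)) • (d * y * d⁻¹) • b = (d * y * d⁻¹) • b := by
  have e : (d * y * d⁻¹) • b = d • y • b := by rw [mul_smul, mul_smul, inv_smul_eq_iff.2 hdb.symm]
  rw [e, show x * (d * z * d⁻¹) = d * (x * z) * d⁻¹ by
    rw [show d * (x * z) * d⁻¹ = d * x * z * d⁻¹ by group, hdx.eq]; group]
  rw [mul_smul, mul_smul, inv_smul_smul, h]

/-- The normaliser moves the stabiliser only by central elements. -/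
theorem bc {y p : G} (hy : y ∈ yGroup U b) (hp : p ∈ ptGroup U b) : y * p * y⁻¹ * p ∈ zgroup U := by
  classical
  obtain ⟨x, hx, hx1, -⟩ := exists_pt_invol hS hU hb hP
  have hp2 := pt_sq hS hU hb hP hp
  by_cases hyW : y ∈ wGroup U b
  · rw [(w_comm hS hU hb hP hyW (ptGroup_le_wGroup hp)).eq, mul_inv_cancel_right, hp2]
    exact one_mem _
  -- the projection to the stabiliser is the same for all elements outside the product
  have proj : ∀ {y p : G}, y ∈ yGroup U b → p ∈ ptGroup U b →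
      ∃ π ∈ ptGroup U b, y * p * y⁻¹ * π ∈ zgroup U := fun {y p} hy hp => by
    obtain ⟨z, hz, π, hπ, e⟩ := yGroup_conj hy (ptGroup_le_wGroup hp)
    exact ⟨π, hπ, by rw [← e, mul_assoc, pt_sq hS hU hb hP hπ, mul_one]; exact hz⟩
  have uniq : ∀ {g π π' : G}, π ∈ ptGroup U b → π' ∈ ptGroup U b → g * π ∈ zgroup U → g * π' ∈ zgroup U →
      π = π' := fun {g π π'} hπ hπ' h h' => by
    have h2 : π⁻¹ * π' ∈ zgroup U := by
      have := mul_mem (inv_mem h) h'
      rwa [mul_inv_rev, show π⁻¹ * g⁻¹ * (g * π') = π⁻¹ * π' by group] at this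
    exact inv_mul_eq_one.1 (by_contra fun hne => pt_not_z hS hb (mul_mem (inv_mem hπ) hπ') hne h2)
  have const : ∀ {y y' : G}, y ∈ yGroup U b → y ∉ wGroup U b → y' ∈ yGroup U b → y' ∉ wGroup U b →
      ∀ {p π : G}, p ∈ ptGroup U b → π ∈ ptGroup U b → y * p * y⁻¹ * π ∈ zgroup U →
        y' * p * y'⁻¹ * π ∈ zgroup U := by
    intro y y' hy hyW hy' hy'W p π hp hπ h
    obtain ⟨z, hz, e⟩ := exists_mu hS hU hb hP hy hyW hx hx1
    obtain ⟨z', hz', e'⟩ := exists_mu hS hU hb hP hy' hy'W hx hx1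
    obtain ⟨d, hda, hdb, hdz, hdP⟩ := exists_mover hS hU hb hz hz'
    have hyd := pair_conj_y hS hU hb hda hdb hy
    have e2 := mu_move hS hU hb hP hdb (hdP x hx) e
    rw [hdz] at e2
    have hw := mu_inj hS hU hb hP hy' hyd hx hx1 hz' e' e2
    have h2 := zgroup_conj hS hda h
    have e3 : d * (y * p * y⁻¹ * π) * d⁻¹ = (d * y * d⁻¹) * p * (d * y * d⁻¹)⁻¹ * π := by
      calc d * (y * p * y⁻¹ * π) * d⁻¹
          = d * y * d⁻¹ * (d * p * d⁻¹) * (d * y * d⁻¹)⁻¹ * (d * π * d⁻¹) := by group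
        _ = _ := by rw [(hdP p hp).eq, (hdP π hπ).eq, mul_inv_cancel_right, mul_inv_cancel_right]
    rw [e3] at h2
    set w := y'⁻¹ * (d * y * d⁻¹)
    rw [show d * y * d⁻¹ = y' * w from (mul_inv_cancel_left _ _).symm,
      show y' * w * p * (y' * w)⁻¹ = y' * (w * p * w⁻¹) * y'⁻¹ by group,
      (w_comm hS hU hb hP hw (ptGroup_le_wGroup hp)).eq, mul_inv_cancel_right] at h2
    exact h2
  obtain ⟨π, hπ, hyπ⟩ := proj hy hp
  suffices π = p by rwa [this] at hyπ
  -- two elements outside the product with their product outside it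
  obtain ⟨y', hy', hy'W, hyy'⟩ : ∃ y' ∈ yGroup U b, y' ∉ wGroup U b ∧ y * y' ∉ wGroup U b := by
    obtain ⟨z, hz, e⟩ := exists_mu hS hU hb hP hy hyW hx hx1
    obtain ⟨z₂, hz₂, hne⟩ := exists_cpt_ne hS a z
    obtain ⟨d, hda, hdb, hdz, hdP⟩ := exists_mover hS hU hb hz hz₂
    have hyd := pair_conj_y hS hU hb hda hdb hy
    have e2 := mu_move hS hU hb hP hdb (hdP x hx) e
    rw [hdz] at e2
    have hydW : d * y * d⁻¹ ∉ wGroup U b := fun h => hyW (by
      have := pair_conj hS hU hb (d := d⁻¹) (inv_smul_eq_iff.2 hda.symm) (inv_smul_eq_iff.2 hdb.symm) h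
      rwa [show d⁻¹ * (d * y * d⁻¹) * d⁻¹⁻¹ = y by group] at this)
    by_cases h : y * y ∈ wGroup U b
    · refine ⟨_, hyd, hydW, fun h' => hne ?_⟩
      refine (mu_unique hS hU hb hP hy (w := y⁻¹ * (d * y * d⁻¹)) ?_ hx hz hz₂ e ?_).symm
      · have := mul_mem (inv_mem h) h'
        rwa [show (y * y)⁻¹ * (y * (d * y * d⁻¹)) = y⁻¹ * (d * y * d⁻¹) by group] at this
      · rwa [mul_inv_cancel_left]
    · exact ⟨y, hy, hyW, h⟩
  -- the projection is idempotent
  obtain ⟨π', hπ', hπ''⟩ := proj hy hπ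
  have h1 := const hy hyW hy' hy'W hp hπ hyπ
  have h2 := const hy hyW (mul_mem hy hy') hyy' hp hπ hyπ
  have h3 : y * y' * p * (y * y')⁻¹ * π' ∈ zgroup U := by
    have e : y * y' * p * (y * y')⁻¹ * π' =
        y * (y' * p * y'⁻¹ * π) * y⁻¹ * (y * π⁻¹ * y⁻¹ * π') := by group
    rw [e, inv_eq_of_mul_eq_one_right (pt_sq hS hU hb hP hπ)]
    exact mul_mem (zgroup_conj hS (ua hS (yGroup_le hy)) h1) hπ''
  have e := uniq hπ hπ' h2 h3
  rw [← e] at hπ''
  -- and injective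
  have h4 : y * (p * π) * y⁻¹ ∈ zgroup U := by
    have := mul_mem hyπ (inv_mem hπ'')
    rwa [mul_inv_rev, inv_eq_of_mul_eq_one_right (pt_sq hS hU hb hP hπ),
      show y * p * y⁻¹ * π * (π * (y * π * y⁻¹)⁻¹) = y * p * y⁻¹ * (π * π) * (y * π⁻¹ * y⁻¹) by group,
      pt_sq hS hU hb hP hπ, inv_eq_of_mul_eq_one_right (pt_sq hS hU hb hP hπ), mul_one,
      show y * p * y⁻¹ * (y * π * y⁻¹) = y * (p * π) * y⁻¹ by group] at this
  have h5 := zgroup_conj hS (g := y⁻¹) (inv_smul_eq_iff.2 (ua hS (yGroup_le hy)).symm) h4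
  rw [inv_inv, show y⁻¹ * (y * (p * π) * y⁻¹) * y = p * π by group] at h5
  by_contra hne
  refine pt_not_z hS hb (mul_mem hp hπ) (fun h => hne ?_) h5
  rw [mul_eq_one_iff_eq_inv, inv_eq_of_mul_eq_one_right (pt_sq hS hU hb hP hπ)] at h
  exact h.symm

theorem bc_one {y p : G} (hy : y ∈ yGroup U b) (hp : p ∈ ptGroup U b) (hp1 : p ≠ 1)
    (h : y * p * y⁻¹ * p = 1) : y ∈ wGroup U b := by
  refine cent_pt hS hU hb hP hp hp1 (yGroup_le hy) ?_
  rw [mul_eq_one_iff_eq_inv, inv_eq_of_mul_eq_one_right (pt_sq hS hU hb hP hp)] at h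
  exact mul_inv_eq_iff_eq_mul.1 h

/-- Squares in the normaliser are central. -/
theorem y_sq {y : G} (hy : y ∈ yGroup U b) : y * y ∈ zgroup U := by
  by_cases hyW : y ∈ wGroup U b
  · rw [w_sq hS hU hb hP hyW]; exact one_mem _
  obtain ⟨x, hx, hx1, -⟩ := exists_pt_invol hS hU hb hP
  have h := bc hS hU hb hP hy hx
  have h2 : y * y ∈ wGroup U b := by
    refine bc_one hS hU hb hP (mul_mem hy hy) hx hx1 ?_
    have e : y * y * x * (y * y)⁻¹ * x = y * (y * x * y⁻¹ * x) * y⁻¹ * (y * x⁻¹ * y⁻¹ * x) := by group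
    rw [e, inv_eq_of_mul_eq_one_right (pt_sq hS hU hb hP hx),
      ((mem_zgroup.1 h).2.2 y (yGroup_le hy)).eq, mul_inv_cancel_right, (mem_zgroup.1 h).2.1]
  obtain ⟨z, hz, p, hp, e⟩ := h2
  by_cases hp1 : p = 1
  · rw [← e, hp1, mul_one]; exact hz
  refine absurd (cent_pt hS hU hb hP hp hp1 (yGroup_le hy) ?_) hyW
  have h3 : Commute y (z * p) := e ▸ (Commute.refl y).mul_right (Commute.refl y)
  have := ((mem_zgroup.1 hz).2.2 y (yGroup_le hy)).inv_right.mul_right h3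
  rwa [inv_mul_cancel_left] at this

end Facts

end Cfsg.Lib.SplitRankOne
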